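import Mathlib.Data.Nat.GCD.Basic
import Mathlib.Data.Multiset.Basic
import Mathlib.Tactic

/-!
The arithmetic of a large subgroup of `SU₃(q)` (helper10).
-/

set_option autoImplicit false

namespace Cfsg.Agent.MinIndexU3

/-- The summands `N - n` for proper divisors `n` of `N`. -/
theorem sum_defect (N : ℕ) (hN : 0 < N) (T : Multiset ℕ) (h : ∀ n ∈ T, n ∣ N) :
    ∃ T' : Multiset ℕ, (∀ n ∈ T', n ∣ N ∧ 2 * n ≤ N) ∧
      (T'.map (N - ·)).sum = (T.map (N - ·)).sum ∧
      Multiset.card T' * N ≤ 2 * (T'.map (N - ·)).sum := by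
  induction T using Multiset.induction_on with
  | empty => exact ⟨0, by simp, by simp, by simp⟩
  | cons n T ih =>
    obtain ⟨T', h1, h2, h3⟩ := ih fun x hx => h x (Multiset.mem_cons_of_mem hx)
    obtain ⟨r, hr⟩ := h n (Multiset.mem_cons_self n T)
    rcases (show r = 0 ∨ r = 1 ∨ 2 ≤ r by omega) with h' | h' | h'
    · rw [h', mul_zero] at hr; omega
    · rw [h', mul_one] at hr
      refine ⟨T', h1, ?_, h3⟩
      rw [Multiset.map_cons, Multiset.sum_cons, h2, show N - n = 0 by omega, zero_add]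
    · have h2n : 2 * n ≤ N := by rw [hr]; nlinarith
      refine ⟨n ::ₘ T', fun x hx => ?_, by simp [h2], ?_⟩
      · rcases Multiset.mem_cons.1 hx with rfl | hx
        · exact ⟨⟨r, hr⟩, h2n⟩
        · exact h1 x hx
      · simp only [Multiset.card_cons, Multiset.map_cons, Multiset.sum_cons]
        rw [add_mul, one_mul]
        omega

/-- The orbit condition. -/
def OrbitCond (q b m : ℕ) : Prop :=
  ∃ T : Multiset ℕ, (∀ n ∈ T, n ∣ (q + 1) * b * m) ∧
    (T.map fun n => (q + 1) * b * m - n).sum + (q + 1) * b = (q + 1) * b * m + 2 * q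

theorem one_orbit {q b m : ℕ} (hq : 2 ≤ q) (hb : 2 ≤ b) (hm : 1 ≤ m) (h : OrbitCond q b m) :
    ((q + 1) * (b - 2) + 2) ∣ (q + 1) * b * m := by
  obtain ⟨T, hT, hs⟩ := h
  set N := (q + 1) * b * m with hN
  have hN0 : 0 < N := by positivity
  obtain ⟨T', h1, h2, h3⟩ := sum_defect N hN0 T hT
  rw [← h2] at hs
  obtain ⟨b', rfl⟩ : ∃ b', b = b' + 2 := ⟨b - 2, by omega⟩
  rw [Nat.add_sub_cancel]
  have he : (q + 1) * (b' + 2) = (q + 1) * b' + 2 * q + 2 := by ring
  have hlt : Multiset.card T' < 2 := by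
    by_contra hc
    have : 2 * N ≤ Multiset.card T' * N := Nat.mul_le_mul_right N (by omega)
    omega
  rcases (show Multiset.card T' = 0 ∨ Multiset.card T' = 1 by omega) with hc | hc
  · rw [Multiset.card_eq_zero.1 hc, Multiset.map_zero, Multiset.sum_zero] at hs
    rw [show (q + 1) * b' + 2 = N by omega]
  · obtain ⟨n, rfl⟩ := Multiset.card_eq_one.1 hc
    rw [Multiset.map_singleton, Multiset.sum_singleton] at hs
    obtain ⟨hn, hn2⟩ := h1 n (Multiset.mem_singleton_self n)
    rw [show (q + 1) * b' + 2 = n by omega]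
    exact hn

theorem two_orbits {q m : ℕ} (hq : 2 ≤ q) (hm : 3 ≤ m) (h : OrbitCond q 1 m) :
    (m = 3 ∧ (q = 3 ∨ q = 7 ∨ q = 19)) ∨ (m = 4 ∧ q = 5) ∨ (m = 5 ∧ q = 11) := by
  obtain ⟨T, hT, hs⟩ := h
  simp only [mul_one] at hT hs
  set N := (q + 1) * m with hN
  have hN3 : 3 * (q + 1) ≤ N := by rw [hN, mul_comm 3]; exact Nat.mul_le_mul_left _ hm
  obtain ⟨T', h1, h2, h3⟩ := sum_defect N (by omega) T hT
  rw [← h2] at hs
  have hc : Multiset.card T' = 2 := by
    rcases (show Multiset.card T' = 0 ∨ Multiset.card T' = 1 ∨ Multiset.card T' = 2 ∨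
      3 ≤ Multiset.card T' by omega) with hc | hc | hc | hc
    · rw [Multiset.card_eq_zero.1 hc, Multiset.map_zero, Multiset.sum_zero] at hs; omega
    · obtain ⟨n, rfl⟩ := Multiset.card_eq_one.1 hc
      rw [Multiset.map_singleton, Multiset.sum_singleton] at hs
      omega
    · exact hc
    · have : 3 * N ≤ Multiset.card T' * N := Nat.mul_le_mul_right N hc
      omega
  obtain ⟨x, y, rfl⟩ := Multiset.card_eq_two.1 hc
  obtain ⟨⟨s1, hs1⟩, hx2⟩ := h1 x (by simp)
  obtain ⟨⟨s2, hs2⟩, hy2⟩ := h1 y (by simp)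
  simp only [Multiset.insert_eq_cons, Multiset.map_cons, Multiset.map_singleton,
    Multiset.sum_cons, Multiset.sum_singleton] at hs
  have hxy : x + y + q = N + 1 := by omega
  have main : ∀ x y r : ℕ, 2 * x = N → N = y * r → x + y + q = N + 1 →
      (m = 3 ∧ (q = 3 ∨ q = 7 ∨ q = 19)) ∨ (m = 4 ∧ q = 5) ∨ (m = 5 ∧ q = 11) := by
    intro x y r hx hy hxy
    have hy0 : y ≠ 0 := by rintro rfl; omega
    have hr3 : 3 ≤ r := by
      by_contra hr
      interval_cases r <;> omega
    have h3y : 3 * y ≤ N := by rw [hy, mul_comm 3]; exact Nat.mul_le_mul_left y hr3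
    have hm5 : m ≤ 5 := by
      by_contra hm6
      have : 6 * (q + 1) ≤ N := by rw [hN, mul_comm 6]; exact Nat.mul_le_mul_left _ (by omega)
      omega
    have hr6 : r ≤ 5 := by
      by_contra hr
      have : 6 * y ≤ N := by rw [hy, mul_comm 6]; exact Nat.mul_le_mul_left y (by omega)
      interval_cases m <;> omega
    interval_cases m <;> interval_cases r <;> omega
  by_cases hx : 2 * x = N
  · exact main x y s2 hx hs2 hxy
  by_cases hy : 2 * y = N
  · exact main y x s1 hy hs1 (by omega)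
  exfalso
  have key : ∀ u s : ℕ, 2 * u ≠ N → 2 * u ≤ N → N = u * s → 3 * u ≤ N := fun u s hne hle hu => by
    rcases (show s ≤ 2 ∨ 3 ≤ s by omega) with h' | h'
    · interval_cases s <;> omega
    · rw [hu, mul_comm 3]; exact Nat.mul_le_mul_left u h'
  have := key x s1 hx hx2 hs1
  have := key y s2 hy hy2 hs2
  omega

/-- The numerical data of a large subgroup. -/
structure Numeric (p q z b c k0 : ℕ) : Prop where
  hp : p.Prime
  hq : ∃ k, q = p ^ k
  hz : ∃ k, z = p ^ k
  hb : ∃ k, b = p ^ k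
  q3 : 3 ≤ q
  q5 : q ≠ 5
  large : q ^ 2 - 1 ≤ z * b * c
  cdvd : c ∣ q ^ 2 - 1
  k0two : 2 ≤ k0
  bk0 : b * k0 ≤ q
  k0b : b ≠ 1 → k0 ≤ b
  mdvd : ∀ m, m * c.gcd (q + 1) = c → m ∣ k0 - 1
  Mdvd : ∀ M, M * c.gcd (2 * q - 1) = c → M ∣ z - 1
  mu : b = 1 → z ≠ 1 → c ∣ (2 * q - 1) * (q - 1)
  zq : z ≤ q
  zk0 : p = 2 → z * k0 ≤ q
  bnorm : p = 2 → z ≠ 1 → b ≠ 1
  btwo : p = 2 → b = 2 → z ≤ 4 ∧ (¬ 3 ∣ q + 1 → z ≤ 2)
  ceven : p ≠ 2 → 2 ∣ c
  orbit : ¬ c.gcd (q + 1) ∣ 3 → ∀ m, m * c.gcd (q + 1) = c → OrbitCond q b m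

set_option maxHeartbeats 1000000 in
theorem numeric_cases {p q z b c k0 : ℕ} (D : Numeric p q z b c k0) :
    (q = 3 ∧ z * b * c = 8) ∨ (q = 8 ∧ z * b * c = 72) ∨ (q = 9 ∧ z * b * c = 108) ∨
      (q = 11 ∧ z * b * c = 330) := by
  obtain ⟨hp, ⟨kq, hkq⟩, ⟨kz, hkz⟩, ⟨kb, hkb⟩, q3, q5, large, cdvd, k0two, bk0, k0b, mdvd, Mdvd,
    mu, zq, zk0, bnorm, btwo, ceven, orbit⟩ := D
  have hp2 := hp.two_le
  have hq9 : 9 ≤ q ^ 2 := by nlinarith
  have hz0 : 1 ≤ z := hkz ▸ Nat.one_le_pow _ _ (by omega)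
  have hb0 : 1 ≤ b := hkb ▸ Nat.one_le_pow _ _ (by omega)
  have hc0 : 1 ≤ c := Nat.pos_of_dvd_of_pos cdvd (by omega)
  obtain ⟨m, hm⟩ := Nat.gcd_dvd_left c (q + 1)
  obtain ⟨M, hM⟩ := Nat.gcd_dvd_left c (2 * q - 1)
  rw [mul_comm] at hm hM
  have hg1q : c.gcd (q + 1) ∣ q + 1 := Nat.gcd_dvd_right _ _
  have hg2q : c.gcd (2 * q - 1) ∣ 2 * q - 1 := Nat.gcd_dvd_right _ _
  have hg1c : c.gcd (q + 1) ∣ c := Nat.gcd_dvd_left _ _
  set g1 := c.gcd (q + 1) with hg1def
  set g2 := c.gcd (2 * q - 1) with hg2def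
  have hmdvd := mdvd m hm.symm
  have hMdvd := Mdvd M hM.symm
  have hm0 : 1 ≤ m := Nat.pos_of_ne_zero fun e => by rw [e, zero_mul] at hm; omega
  have hg1le : g1 ≤ q + 1 := Nat.le_of_dvd (by omega) hg1q
  have hmle : m ≤ k0 - 1 := Nat.le_of_dvd (by omega) hmdvd
  have hg2 : g2 ∣ 3 := by
    obtain ⟨q', rfl⟩ : ∃ q', q = q' + 1 := ⟨q - 1, by omega⟩
    have h1 : g2 ∣ 4 * ((q' + 1) ^ 2 - 1) := ((Nat.gcd_dvd_left _ _).trans cdvd).mul_left 4
    have h2 : g2 ∣ (2 * (q' + 1) - 1) * (2 * q' + 3) := hg2q.mul_right _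
    have e1 : (q' + 1) ^ 2 - 1 = q' ^ 2 + 2 * q' := by
      rw [show (q' + 1) ^ 2 = q' ^ 2 + 2 * q' + 1 by ring, Nat.add_sub_cancel]
    have e2 : (2 * (q' + 1) - 1) * (2 * q' + 3) = 4 * (q' ^ 2 + 2 * q') + 3 := by
      rw [show 2 * (q' + 1) - 1 = 2 * q' + 1 by omega]; ring
    rw [e1] at h1
    rw [e2] at h2
    exact (Nat.dvd_add_right h1).1 h2
  have hg2le : g2 ≤ 3 := Nat.le_of_dvd (by norm_num) hg2
  by_cases hz1 : z = 1
  · -- no translations outside the transvections
    subst hz1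
    by_cases hb1 : b = 1
    · subst hb1
      have hc : c = q ^ 2 - 1 := le_antisymm (Nat.le_of_dvd (by omega) cdvd) (by linarith)
      have hsq : q ^ 2 - 1 = (q + 1) * (q - 1) := by rw [← Nat.sq_sub_sq, one_pow]
      have hg : g1 = q + 1 := Nat.gcd_eq_right ⟨q - 1, hc.trans hsq⟩
      have hmq : m = q - 1 := by
        refine Nat.eq_of_mul_eq_mul_left (show 0 < q + 1 by omega) ?_
        rw [← hsq, ← hc, hm, hg, mul_comm]
      by_cases hq' : q = 3
      · subst hq'
        exact Or.inl ⟨rfl, by omega⟩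
      exfalso
      rcases two_orbits (by omega) (by omega)
        (orbit (fun h => by rw [hg] at h; have := Nat.le_of_dvd (by norm_num) h; omega) m hm.symm)
        with ⟨rfl, h⟩ | ⟨rfl, h⟩ | ⟨rfl, h⟩ <;> omega
    · exfalso
      have hcle : c ≤ (k0 - 1) * (q + 1) := hm ▸ Nat.mul_le_mul hmle hg1le
      obtain ⟨k', rfl⟩ : ∃ k', k0 = k' + 1 := ⟨k0 - 1, by omega⟩
      rw [Nat.add_sub_cancel] at hcle
      have h1 : b * c ≤ (b * k') * (q + 1) := by rw [mul_assoc]; exact Nat.mul_le_mul_left b hcle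
      have h2 : b * k' + 2 ≤ q := by rw [mul_add, mul_one] at bk0; omega
      have h3 : (b * k' + 2) * (q + 1) ≤ q * (q + 1) := Nat.mul_le_mul_right _ h2
      have h4 : b * c + 2 * (q + 1) ≤ q * q + q := by nlinarith
      rw [sq] at large
      simp only [one_mul] at large
      omega
  have hMle : M ≤ z - 1 := Nat.le_of_dvd (by omega) hMdvd
  have hc3M : c ≤ 3 * M := by rw [hM, mul_comm 3]; exact Nat.mul_le_mul_left M hg2le
  by_cases hp' : p = 2
  · -- characteristic two
    subst hp'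
    have hb2 : b ≠ 1 := bnorm rfl hz1
    have hzk := zk0 rfl
    by_cases hg3 : g1 ∣ 3
    · exfalso
      have hg1' : g1 ≤ 3 := Nat.le_of_dvd (by norm_num) hg3
      have hcle : c ≤ (k0 - 1) * 3 := hm ▸ Nat.mul_le_mul hmle hg1'
      obtain ⟨k', rfl⟩ : ∃ k', k0 = k' + 1 := ⟨k0 - 1, by omega⟩
      rw [Nat.add_sub_cancel] at hcle
      have h1 : (z * (k' + 1)) * (b * (k' + 1)) * c ≤ q * q * (k' * 3) :=
        Nat.mul_le_mul (Nat.mul_le_mul hzk bk0) hcle
      have h2 : (q ^ 2 - 1) * (k' + 1) ^ 2 ≤ q * q * (k' * 3) := by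
        calc (q ^ 2 - 1) * (k' + 1) ^ 2 ≤ z * b * c * (k' + 1) ^ 2 := Nat.mul_le_mul_right _ large
          _ = (z * (k' + 1)) * (b * (k' + 1)) * c := by ring
          _ ≤ _ := h1
      obtain ⟨Q, hQ⟩ : ∃ Q, q ^ 2 = Q + 9 := ⟨q ^ 2 - 9, by omega⟩
      rw [← sq, hQ, show Q + 9 - 1 = Q + 8 by omega] at h2
      zify at h2
      nlinarith [mul_nonneg (show (0:ℤ) ≤ (Q : ℤ) + 9 by positivity) (sq_nonneg ((k' : ℤ) - 1)),
        mul_nonneg (show (0:ℤ) ≤ (Q : ℤ) by positivity) (sq_nonneg ((k' : ℤ) + 1))]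
    · obtain ⟨j, rfl⟩ : ∃ j, kb = j + 1 :=
        ⟨kb - 1, by have : kb ≠ 0 := (by rintro rfl; exact hb2 (by simpa using hkb)); omega⟩
      obtain ⟨i, rfl⟩ : ∃ i, kq = i + 1 :=
        ⟨kq - 1, by have : kq ≠ 0 := (by rintro rfl; simp at hkq; omega); omega⟩
      have hn := one_orbit (by omega) (by omega) hm0 (orbit hg3 m hm.symm)
      set n := (q + 1) * (b - 2) + 2 with hndef
      have hcop : Nat.Coprime n (q + 1) := by
        have h1 : n.gcd (q + 1) ∣ 2 :=
          (Nat.dvd_add_right ((Nat.gcd_dvd_right n (q + 1)).mul_right (b - 2))).1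
            (Nat.gcd_dvd_left n (q + 1))
        rcases (Nat.dvd_prime Nat.prime_two).1 h1 with h' | h'
        · exact h'
        · have h2 : 2 ∣ q + 1 := h' ▸ Nat.gcd_dvd_right n (q + 1)
          rw [hkq, pow_succ] at h2
          omega
      have hdvd : n ∣ b * m := hcop.dvd_of_dvd_mul_left (by rwa [← mul_assoc])
      have hle : n ≤ b * (k0 - 1) :=
        (Nat.le_of_dvd (by positivity) hdvd).trans (Nat.mul_le_mul_left b hmle)
      have hkb' : b * (k0 - 1) + b ≤ q := by
        obtain ⟨k', rfl⟩ : ∃ k', k0 = k' + 1 := ⟨k0 - 1, by omega⟩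
        rw [Nat.add_sub_cancel]; rw [mul_add, mul_one] at bk0; exact bk0
      have hb : b = 2 := by
        by_contra hb
        have h3 : (q + 1) * 1 ≤ (q + 1) * (b - 2) := Nat.mul_le_mul_left _ (by omega)
        omega
      subst hb
      have hk0 : k0 = 2 := le_antisymm (k0b (by omega)) k0two
      subst hk0
      obtain rfl : m = 1 := by omega
      obtain ⟨hz4, hz3⟩ := btwo rfl rfl
      have hzcases : z = 2 ∨ z = 4 := by
        rcases kz with _ | _ | _ | kz
        · simp at hkz; omega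
        · left; simpa using hkz
        · right; simpa using hkz
        · exfalso; rw [pow_add] at hkz; have : 0 < 2 ^ kz := by positivity
          omega
      have hq4 : 4 ≤ q := by rw [hkq, pow_succ] at q3 ⊢; omega
      have hq16 : 16 ≤ q ^ 2 := by nlinarith
      rcases hzcases with rfl | rfl
      · exfalso; omega
      · have h3q : 3 ∣ q + 1 := by
          by_contra h
          have := hz3 h
          omega
        have hc9 : c ≤ 9 := by omega
        have hq8 : q ≤ 8 := by
          by_contra hq8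
          have : 81 ≤ q ^ 2 := by nlinarith
          omega
        have hq8' : q = 8 := by interval_cases q <;> omega
        subst hq8'
        refine Or.inr (Or.inl ⟨rfl, ?_⟩)
        norm_num at cdvd large
        interval_cases c <;> omega
  · -- odd characteristic
    have hp3 : 3 ≤ p := by omega
    have h2c := ceven hp'
    have hqodd : q % 2 = 1 := by
      rw [hkq, ← Nat.odd_iff]
      exact (hp.odd_of_ne_two hp').pow
    have hg3 : ¬ g1 ∣ 3 := fun h => by
      have : 2 ∣ g1 := Nat.dvd_gcd h2c (by omega)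
      have := this.trans h
      omega
    have horb := orbit hg3 m hm.symm
    by_cases hb1 : b = 1
    · subst hb1
      have hMq : M ∣ q - 1 := by
        have h1 : c ∣ c.gcd (2 * q - 1) * (q - 1) := (dvd_gcd_mul_iff_dvd_mul).2 (mu rfl hz1)
        rw [← hg2def] at h1
        obtain ⟨r, hr⟩ := h1
        have hg20 : 0 < g2 := Nat.gcd_pos_of_pos_right _ (by omega)
        exact ⟨r, Nat.eq_of_mul_eq_mul_left hg20 (by rw [hr, hM]; ring)⟩
      have hMq' : M ≤ q - 1 := Nat.le_of_dvd (by omega) hMq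
      simp only [mul_one] at large
      have hzq : z = q := by
        by_contra hne
        have hzlt : z < q := lt_of_le_of_ne zq hne
        have hk : kz < kq := by
          by_contra hk
          have := Nat.pow_le_pow_right (show 0 < p by omega) (not_lt.1 hk)
          omega
        have h3z : 3 * z ≤ q := by
          calc 3 * z ≤ p * z := Nat.mul_le_mul_right _ hp3
            _ = p ^ (kz + 1) := by rw [hkz, pow_succ']
            _ ≤ q := hkq ▸ Nat.pow_le_pow_right (by omega) hk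
        have h1 : z * c ≤ z * (3 * z) := Nat.mul_le_mul_left z (by omega)
        have h2 : (3 * z) * (3 * z) ≤ q * q := Nat.mul_le_mul h3z h3z
        have h3 : 3 * (z * (3 * z)) = 3 * z * (3 * z) := by ring
        have h4 : q ^ 2 = q * q := sq q
        omega
      rw [hzq] at large hMle hMdvd
      have hg23 : g2 = 3 := by
        rcases (Nat.dvd_prime Nat.prime_three).1 hg2 with h' | h'
        · exfalso
          rw [h', mul_one] at hM
          have : q * c + q ≤ q * q := by
            rw [← mul_add_one]; exact Nat.mul_le_mul_left q (by omega)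
          rw [sq] at large
          omega
        · exact h'
      rw [hg23] at hM hg2q
      have hcq : q ≤ c := by
        by_contra hcq
        have : q * c + q ≤ q * q := by
          rw [← mul_add_one]; exact Nat.mul_le_mul_left q (by omega)
        rw [sq] at large
        omega
      obtain ⟨r, hr⟩ := hMq
      have hr2 : r ≤ 2 := by
        by_contra hr3
        have : M * 3 ≤ M * r := Nat.mul_le_mul_left M (by omega)
        omega
      have hg16 : g1 = 6 := by
        have h6 : 6 ∣ g1 := Nat.dvd_gcd (by omega) (by omega)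
        have h1 : g1 ∣ (q - 1) * 3 := (by rw [← hM]; exact hg1c : g1 ∣ M * 3).trans
          (Nat.mul_dvd_mul_right ⟨r, hr⟩ 3)
        have h2 : g1 ∣ (q + 1) * 3 := hg1q.mul_right 3
        have h3 : g1 ∣ 6 := by
          have e : (q + 1) * 3 = (q - 1) * 3 + 6 := by omega
          rw [e] at h2
          exact (Nat.dvd_add_right h1).1 h2
        exact Nat.dvd_antisymm h3 h6
      rw [hg16] at hm
      have hq11 : 11 ≤ q := by omega
      rcases (show r = 1 ∨ r = 2 by rcases r with _ | _ | r <;> omega) with rfl | rfl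
      · rcases two_orbits (by omega) (by omega) horb with ⟨rfl, h⟩ | ⟨rfl, h⟩ | ⟨rfl, h⟩
        · omega
        · omega
        · exact Or.inr (Or.inr (Or.inr ⟨h, by rw [hzq]; subst h; omega⟩))
      · rcases two_orbits (by omega) (by omega) horb with ⟨rfl, h⟩ | ⟨rfl, h⟩ | ⟨rfl, h⟩ <;> omega
    · have hkb0 : kb ≠ 0 := by rintro rfl; exact hb1 (by simpa using hkb)
      have hb3 : 3 ≤ b := hkb ▸ hp3.trans (Nat.le_self_pow hkb0 p)
      have hn := one_orbit (by omega) (by omega) hm0 horb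
      set n := (q + 1) * (b - 2) + 2 with hndef
      have hg : n.gcd (q + 1) ∣ 2 :=
        (Nat.dvd_add_right ((Nat.gcd_dvd_right n (q + 1)).mul_right (b - 2))).1
          (Nat.gcd_dvd_left n (q + 1))
      have hdvd : n ∣ 2 * (b * m) := by
        have h1 : n ∣ n.gcd (q + 1) * (b * m) := (dvd_gcd_mul_iff_dvd_mul).2 (by rwa [← mul_assoc])
        exact h1.trans (Nat.mul_dvd_mul_right hg _)
      have hle : n ≤ 2 * (b * (k0 - 1)) :=
        (Nat.le_of_dvd (by positivity) hdvd).trans
          (Nat.mul_le_mul_left 2 (Nat.mul_le_mul_left b hmle))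
      have hkb' : b * (k0 - 1) + b ≤ q := by
        obtain ⟨k', rfl⟩ : ∃ k', k0 = k' + 1 := ⟨k0 - 1, by omega⟩
        rw [Nat.add_sub_cancel]; rw [mul_add, mul_one] at bk0; exact bk0
      have hb : b = 3 := by
        by_contra hb
        have h3 : (q + 1) * 2 ≤ (q + 1) * (b - 2) := Nat.mul_le_mul_left _ (by omega)
        omega
      subst hb
      have hk0 : k0 ≤ 3 := k0b (by omega)
      obtain rfl : p = 3 := by
        have hd : p ∣ 3 := hkb ▸ dvd_pow_self p hkb0
        exact ((Nat.dvd_prime Nat.prime_three).1 hd).resolve_left (by omega)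
      have hq9' : q = 9 := by
        have : q ≤ 9 := by interval_cases k0 <;> omega
        rcases kq with _ | _ | _ | kq
        · simp at hkq; omega
        · exfalso
          simp at hkq
          subst hkq
          interval_cases k0 <;> omega
        · simpa using hkq
        · exfalso; rw [pow_add] at hkq; have : 0 < 3 ^ kq := by positivity
          omega
      subst hq9'
      have hm2 : m = 2 := by
        rw [show n = 12 from rfl] at hdvd
        omega
      subst hm2
      have hz9 : z = 3 ∨ z = 9 := by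
        rcases kz with _ | _ | _ | kz
        · simp at hkz; omega
        · left; simpa using hkz
        · right; simpa using hkz
        · exfalso; rw [pow_add] at hkz; have : 0 < 3 ^ kz := by positivity
          omega
      have hg21 : g2 = 1 := by
        rcases (Nat.dvd_prime Nat.prime_three).1 hg2 with h' | h'
        · exact h'
        · rw [h'] at hg2q; omega
      rw [hg21, mul_one] at hM
      subst hM
      norm_num at large cdvd
      refine Or.inr (Or.inr (Or.inl ⟨rfl, ?_⟩))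
      rcases hz9 with rfl | rfl
      · omega
      · have hc8 : c ∣ 8 := hMdvd
        have hc8' : c ≤ 8 := Nat.le_of_dvd (by norm_num) hc8
        have hc3 : 3 ≤ c := by omega
        interval_cases c <;> first | omega | (rw [hg1def] at hm; norm_num at hm) 

end Cfsg.Agent.MinIndexU3
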