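import Mathlib.GroupTheory.GroupAction.Quotient
import Mathlib.Tactic

/-!
A Burnside count for actions in which the elements outside the kernel fix one or two points
(helper10).
-/

set_option autoImplicit false

namespace Cfsg.Agent.MinIndexU3

open MulAction

/-- Burnside's formula when every element outside the kernel fixes two points or a single point
of a distinguished orbit. -/
theorem orbit_sum {G L : Type*} [Group G] [MulAction G L] [Finite G] [Finite L] (pe : L)
    {k s u N l : ℕ} (hL : Nat.card L = l) (hl : 3 ≤ l) (hk : Nat.card (orbit G pe) = k)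
    (hs : Nat.card (MulAction.toPermHom G L).ker = s)
    (hu : Nat.card {g : G | fixedBy L g = {pe}} = u) (hG : Nat.card G = N * s)
    (hcases : ∀ g : G, (∀ p : L, g • p = p) ∨ Nat.card (fixedBy L g) = 2 ∨
      ∃ p, p ∈ orbit G pe ∧ fixedBy L g = {p}) :
    ∃ (R : ℕ) (T : Multiset ℕ), (∀ n ∈ T, n ∣ N) ∧
      R * (N * s) + k * u + 2 * s = 2 * (N * s) + s * l ∧
      (T.map (N - ·)).sum + N + l = R * N + k := by
  classical
  haveI := Fintype.ofFinite G
  haveI := Fintype.ofFinite L
  let Sc : Subgroup G := (MulAction.toPermHom G L).ker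
  have hSc : ∀ g, g ∈ Sc ↔ ∀ p : L, g • p = p := fun g =>
    ⟨fun hg p => Equiv.congr_fun (MonoidHom.mem_ker.1 hg) p,
      fun hg => MonoidHom.mem_ker.2 (Equiv.ext hg)⟩
  have huniv : ∀ g, g ∈ Sc → Nat.card (fixedBy L g) = l := fun g hg => by
    rw [Set.eq_univ_of_forall (s := fixedBy L g) ((hSc g).1 hg), Nat.card_coe_set_eq,
      Set.ncard_univ, hL]
  have hspos : 0 < s := hs ▸ Nat.card_pos
  let One : Set G := {g | ∃ p, p ∈ orbit G pe ∧ fixedBy L g = {p}}
  have hconj : ∀ x g : G, ∀ p : L, p ∈ fixedBy L (x * g * x⁻¹) ↔ x⁻¹ • p ∈ fixedBy L g :=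
    fun x g p => by rw [mem_fixedBy, mem_fixedBy, mul_smul, mul_smul, eq_inv_smul_iff]
  have hOne : Nat.card One = k * u := by
    rw [← hk, ← hu, ← Nat.card_prod]
    choose x hx using fun p : orbit G pe => MulAction.mem_orbit_iff.1 p.2
    have hfix : ∀ (p : orbit G pe) (g : {g : G | fixedBy L g = {pe}}),
        fixedBy L (x p * g.1 * (x p)⁻¹) = {p.1} := fun p g => by
      ext r
      rw [hconj, show fixedBy L g.1 = {pe} from g.2, Set.mem_singleton_iff, Set.mem_singleton_iff,
        inv_smul_eq_iff, hx p]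
    refine (Nat.card_eq_of_bijective
      (fun pg : orbit G pe × {g : G | fixedBy L g = {pe}} =>
        (⟨x pg.1 * pg.2.1 * (x pg.1)⁻¹, pg.1.1, pg.1.2, hfix pg.1 pg.2⟩ : One)) ⟨?_, ?_⟩).symm
    · rintro ⟨p, g⟩ ⟨p', g'⟩ hh
      have hv := congrArg Subtype.val hh
      simp only at hv
      have := hfix p g
      rw [hv, hfix p' g', Set.singleton_eq_singleton_iff] at this
      obtain rfl : p = p' := Subtype.ext this.symm
      obtain rfl : g = g' := Subtype.ext (mul_left_cancel (mul_right_cancel hv))
      rfl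
    · rintro ⟨g, r, hrO, hr⟩
      let p : orbit G pe := ⟨r, hrO⟩
      refine ⟨(p, ⟨(x p)⁻¹ * g * x p, ?_⟩), Subtype.ext ?_⟩
      · show fixedBy L ((x p)⁻¹ * g * x p) = {pe}
        ext r'
        have := hconj (x p)⁻¹ g r'
        rw [inv_inv] at this
        rw [this, hr, Set.mem_singleton_iff, Set.mem_singleton_iff]
        exact ⟨fun hr' => MulAction.injective (x p) (hr'.trans (hx p).symm),
          fun e => e ▸ hx p⟩
      · show x p * ((x p)⁻¹ * g * x p) * (x p)⁻¹ = g
        group
  have key : ∀ g : G, Nat.card (fixedBy L g) + (if g ∈ One then 1 else 0) +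
      (if g ∈ Sc then 2 else 0) = 2 + (if g ∈ Sc then l else 0) := fun g => by
    by_cases hg : g ∈ Sc
    · have hn1 : g ∉ One := by
        rintro ⟨p, -, hp⟩
        have := huniv g hg
        rw [hp] at this
        simp at this
        omega
      rw [if_neg hn1, if_pos hg, if_pos hg, huniv g hg]
      omega
    · rw [if_neg hg, if_neg hg]
      obtain hall | htwo | hone := hcases g
      · exact absurd ((hSc g).2 hall) hg
      · have hn1 : g ∉ One := by
          rintro ⟨p, -, hp⟩
          rw [hp] at htwo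
          simp at htwo
        rw [if_neg hn1, htwo]
      · rw [if_pos (show g ∈ One from hone)]
        obtain ⟨p, -, hp⟩ := hone
        rw [hp]
        simp
  have hBurn : ∑ g : G, Nat.card (fixedBy L g) =
      Nat.card (Quotient (orbitRel G L)) * (N * s) := by
    rw [← hG, Nat.card_eq_fintype_card, Nat.card_eq_fintype_card,
      ← MulAction.sum_card_fixedBy_eq_card_orbits_mul_card_group G L]
    exact Finset.sum_congr rfl fun g _ => Nat.card_eq_fintype_card
  have hsum := Finset.sum_congr rfl (fun g (_ : g ∈ (Finset.univ : Finset G)) => key g)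
  rw [Finset.sum_add_distrib, Finset.sum_add_distrib, Finset.sum_add_distrib, ← Finset.sum_filter,
    ← Finset.sum_filter, ← Finset.sum_filter, Finset.sum_const, Finset.sum_const, Finset.sum_const,
    Finset.sum_const] at hsum
  simp only [smul_eq_mul, mul_one, Finset.card_univ, ← Fintype.card_subtype,
    ← Nat.card_eq_fintype_card] at hsum
  rw [hBurn, hOne, show Nat.card {g // g ∈ Sc} = s from hs, hG] at hsum
  let rep : Quotient (orbitRel G L) → L := fun i => i.out
  let sz : Quotient (orbitRel G L) → ℕ := fun i => Nat.card (orbit G (rep i))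
  have hszsum : ∑ i, sz i = l := by
    rw [← hL, ← Nat.card_sigma]
    exact Nat.card_congr (MulAction.selfEquivSigmaOrbits G L).symm
  have hszdvd : ∀ i, sz i ∣ N := fun i => by
    have hle : Sc ≤ MulAction.stabilizer G (rep i) := fun g hg =>
      MulAction.mem_stabilizer_iff.2 ((hSc g).1 hg _)
    have hd := Subgroup.index_dvd_of_le hle
    rw [MulAction.index_stabilizer, ← Nat.card_coe_set_eq] at hd
    refine hd.trans (dvd_of_eq (Nat.eq_of_mul_eq_mul_right hspos ?_))
    rw [← hG, ← Subgroup.card_mul_index Sc, show Nat.card Sc = s from hs, mul_comm]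
  let i0 : Quotient (orbitRel G L) := Quotient.mk _ pe
  have hsz0 : sz i0 = k := by
    rw [← hk]
    exact congrArg (fun S : Set L => Nat.card S) (MulAction.orbit_eq_iff.2 (Quotient.mk_out (s := orbitRel G L) pe))
  have hNpos : 0 < N := Nat.pos_of_ne_zero fun e0 => by
    have := Nat.card_pos (α := G)
    rw [hG, e0, zero_mul] at this
    omega
  refine ⟨Nat.card (Quotient (orbitRel G L)), (Finset.univ.erase i0).val.map sz, fun n hn => ?_,
    by linarith [hsum], ?_⟩
  · obtain ⟨i, -, rfl⟩ := Multiset.mem_map.1 hn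
    exact hszdvd i
  · rw [Multiset.map_map]
    show (∑ i ∈ Finset.univ.erase i0, (N - sz i)) + N + l = _
    have h1 : ∑ i, (N - sz i) + ∑ i, sz i = Nat.card (Quotient (orbitRel G L)) * N := by
      rw [← Finset.sum_add_distrib, Finset.sum_congr rfl
        (fun i _ => Nat.sub_add_cancel (Nat.le_of_dvd hNpos (hszdvd i))), Finset.sum_const,
        smul_eq_mul, Finset.card_univ, Nat.card_eq_fintype_card]
    rw [hszsum, ← Finset.add_sum_erase _ _ (Finset.mem_univ i0), hsz0] at h1
    have h2 : k ≤ N := hsz0 ▸ Nat.le_of_dvd hNpos (hszdvd i0)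
    omega

end Cfsg.Agent.MinIndexU3
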