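import Cfsg.Agent.Lib.Unitary.Field

/-!
Bounds for the translation and transvection parts of a point stabiliser in `SU₃(q)` (helper10).
-/

set_option autoImplicit false

namespace Cfsg.Agent.MinIndexU3

open Cfsg.Agent.Unitary
open Module (finrank)

variable {F : Type*} [Field F] [Fintype F] {q : ℕ}

/-- The invariants of a point stabiliser: translations `Z`, transvections `B`, eigenvalues `C`. -/
structure PointData (F : Type*) [Field F] (q : ℕ) where
  Z : AddSubgroup F
  B : AddSubgroup F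
  C : Subgroup Fˣ
  trace : ∀ b ∈ B, b + b ^ q = 0
  scaleZ : ∀ a ∈ C, ∀ z ∈ Z, z * ((a : F) ^ (q - 1) * (a : F) ^ q) ∈ Z
  scaleB : ∀ a ∈ C, ∀ b ∈ B, (a : F) ^ (q + 1) * b ∈ B
  comm : ∀ z₁ ∈ Z, ∀ z₂ ∈ Z, z₁ * z₂ ^ q - z₁ ^ q * z₂ ∈ B
  norm : CharP F 2 → ∀ z ∈ Z, z * z ^ q ∈ B

/-- A group of units stabilising an additive subgroup acts freely on its non-zero elements. -/
theorem card_dvd_of_stable (Q : Subgroup Fˣ) (S : AddSubgroup F)
    (h : ∀ u ∈ Q, ∀ x ∈ S, (u : F) * x ∈ S) : Nat.card Q ∣ Nat.card S - 1 := by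
  classical
  let T : Set Fˣ := {u | (u : F) ∈ S}
  have hT : QuotientGroup.mk ⁻¹' ((QuotientGroup.mk : Fˣ → Fˣ ⧸ Q) '' T) = T := by
    refine Set.Subset.antisymm ?_ (Set.subset_preimage_image _ _)
    rintro u ⟨v, hv, hvu⟩
    have hd : v⁻¹ * u ∈ Q := QuotientGroup.eq.1 hvu
    have hu := h _ hd _ hv
    rw [show ((v⁻¹ * u : Fˣ) : F) * (v : F) = u by push_cast; field_simp] at hu
    exact hu
  have h1 : Nat.card T = Nat.card Q * Nat.card ((QuotientGroup.mk : Fˣ → Fˣ ⧸ Q) '' T) := by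
    rw [← Nat.card_prod]
    conv_lhs => rw [← hT]
    exact Nat.card_congr (QuotientGroup.preimageMkEquivSubgroupProdSet Q _)
  have h2 : Nat.card T = Nat.card S - 1 := by
    have e : T ≃ {x : S // x ≠ 0} :=
      { toFun := fun u => ⟨⟨(u.1 : F), u.2⟩, fun e => u.1.ne_zero (congrArg Subtype.val e)⟩
        invFun := fun x => ⟨Units.mk0 x.1.1 (fun e => x.2 (Subtype.ext e)), x.1.2⟩
        left_inv := fun u => Subtype.ext (Units.ext rfl)
        right_inv := fun x => rfl }
    rw [Nat.card_congr e, Nat.card_eq_fintype_card, Fintype.card_subtype_compl,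
      Fintype.card_subtype_eq, Nat.card_eq_fintype_card]
  exact ⟨_, h2 ▸ h1⟩

omit [Fintype F] in
/-- The image and kernel of a power map of a finite group of units. -/
theorem card_pow_range [Finite F] (C : Subgroup Fˣ) (n : ℕ) :
    Nat.card ((powMonoidHom n : C →* C).range) * (Nat.card C).gcd n = Nat.card C := by
  rw [← IsCyclic.card_powMonoidHom_ker (G := C) n, ← Subgroup.index_ker, mul_comm,
    Subgroup.card_mul_index]

namespace PointData

variable (D : PointData F q) (hF : Fintype.card F = q ^ 2)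

omit [Fintype F] in
theorem scaleZ' {a : Fˣ} (ha : a ∈ D.C) {z : F} (hz : z ∈ D.Z) :
    (a : F) ^ (q - 1) * (a : F) ^ q * z ∈ D.Z := by
  rw [mul_comm]; exact D.scaleZ a ha z hz

include hF in
theorem mu_pow (a : Fˣ) :
    ((a : F) ^ (q - 1) * (a : F) ^ q) ^ (q + 1) = (a : F) ^ (q + 1) := by
  have h1 : (a : F) ^ (q ^ 2 - 1) = 1 := by
    rw [← hF]; exact FiniteField.pow_card_sub_one_eq_one _ a.ne_zero
  have h2 : (q - 1) * (q + 1) = q ^ 2 - 1 := by rw [mul_comm, ← Nat.sq_sub_sq, one_pow]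
  rw [mul_pow, ← pow_mul, ← pow_mul, h2, h1, one_mul, mul_add, mul_one, pow_add, pow_mul,
    pow_q_pow_q hF, pow_add, pow_one, mul_comm]

/-- The fixed scalars stabilising `Z` and `B`. -/
def K0 (hF : Fintype.card F = q ^ 2) : Subfield F where
  carrier := {t | t ^ q = t ∧ (∀ b ∈ D.B, t * b ∈ D.B) ∧ ∀ z ∈ D.Z, t * z ∈ D.Z}
  zero_mem' := ⟨zero_pow_q hF, fun b _ => by simp, fun z _ => by simp⟩
  one_mem' := ⟨one_pow q, fun b hb => by simpa using hb, fun z hz => by simpa using hz⟩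
  add_mem' := fun {s t} hs ht => ⟨by rw [add_pow_q hF, hs.1, ht.1],
    fun b hb => by rw [add_mul]; exact add_mem (hs.2.1 b hb) (ht.2.1 b hb),
    fun z hz => by rw [add_mul]; exact add_mem (hs.2.2 z hz) (ht.2.2 z hz)⟩
  mul_mem' := fun {s t} hs ht => ⟨by rw [mul_pow, hs.1, ht.1],
    fun b hb => by rw [mul_assoc]; exact hs.2.1 _ (ht.2.1 b hb),
    fun z hz => by rw [mul_assoc]; exact hs.2.2 _ (ht.2.2 z hz)⟩
  neg_mem' := fun {s} hs => ⟨by rw [neg_pow_q hF, hs.1],
    fun b hb => by rw [neg_mul]; exact neg_mem (hs.2.1 b hb),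
    fun z hz => by rw [neg_mul]; exact neg_mem (hs.2.2 z hz)⟩
  inv_mem' := fun s hs => by
    by_cases h0 : s = 0
    · subst h0; rw [inv_zero]; exact hs
    have hq := two_le_q hF
    have h1 : s⁻¹ = s ^ (q - 2) := by
      refine inv_eq_of_mul_eq_one_right ?_
      rw [← pow_succ', show q - 2 + 1 = q - 1 by omega, pow_q_sub_one hF h0, hs.1, div_self h0]
    rw [h1]
    refine ⟨by rw [← pow_mul, mul_comm, pow_mul, hs.1], ?_, ?_⟩ <;> intro b hb <;>
      induction (q - 2) with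
      | zero => simpa using hb
      | succ k ih => first
          | (rw [pow_succ', mul_assoc]; exact hs.2.1 _ ih)
          | (rw [pow_succ', mul_assoc]; exact hs.2.2 _ ih)

/-- `B` as a space over `K0`. -/
def BS : Submodule (D.K0 hF) F :=
  { D.B with smul_mem' := fun t x hx => t.2.2.1 x hx }

/-- `Z` as a space over `K0`. -/
def ZS : Submodule (D.K0 hF) F :=
  { D.Z with smul_mem' := fun t x hx => t.2.2.2 x hx }

/-- The elements of trace zero as a space over `K0`. -/
def V0 : Submodule (D.K0 hF) F where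
  carrier := {x | x + x ^ q = 0}
  zero_mem' := by simp [zero_pow_q hF]
  add_mem' := fun {x y} hx hy => by
    simp only [Set.mem_ofPred_eq] at hx hy ⊢
    rw [add_pow_q hF]; linear_combination hx + hy
  smul_mem' := fun t x hx => by
    simp only [Set.mem_ofPred_eq] at hx ⊢
    show (t : F) * x + ((t : F) * x) ^ q = 0
    rw [mul_pow, t.2.1]; linear_combination (t : F) * hx

theorem card_V0 : Nat.card (D.V0 hF) = q := card_trace_ker hF

theorem B_le : D.BS hF ≤ D.V0 hF := fun b hb => D.trace b hb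

/-- The order of the scalars. -/
noncomputable def k0 : ℕ := Nat.card (D.K0 hF)

theorem two_le_k0 : 2 ≤ D.k0 hF := by
  have : Nontrivial (D.K0 hF) := inferInstance
  exact Finite.one_lt_card

theorem card_space (S : Submodule (D.K0 hF) F) :
    Nat.card S = D.k0 hF ^ finrank (D.K0 hF) S := by
  rw [Module.natCard_eq_pow_finrank (K := D.K0 hF)]; rfl

theorem k0_mul_card_B (h : Nat.card D.B ≠ q) : Nat.card D.B * D.k0 hF ≤ q := by
  have hlt : D.BS hF < D.V0 hF := lt_of_le_of_ne (D.B_le hF) fun e => h (by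
    have : Nat.card (D.BS hF) = q := by rw [e, D.card_V0 hF]
    exact this)
  have h1 := Submodule.finrank_lt_finrank_of_lt hlt
  calc Nat.card D.B * D.k0 hF = D.k0 hF ^ (finrank (D.K0 hF) (D.BS hF) + 1) := by
        rw [pow_succ]; exact congrArg (· * _) (D.card_space hF (D.BS hF))
    _ ≤ D.k0 hF ^ finrank (D.K0 hF) (D.V0 hF) :=
        Nat.pow_le_pow_right (Nat.zero_lt_of_lt (D.two_le_k0 hF)) h1
    _ = q := by rw [← D.card_space hF, D.card_V0 hF]

theorem k0_le_card_B (h : Nat.card D.B ≠ 1) : D.k0 hF ≤ Nat.card D.B := by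
  have h1 : Nat.card D.B = D.k0 hF ^ finrank (D.K0 hF) (D.BS hF) := D.card_space hF (D.BS hF)
  rw [h1]
  refine Nat.le_self_pow (fun e => h ?_) _
  rw [h1, e, pow_zero]

theorem card_nu_dvd :
    Nat.card ((powMonoidHom (q + 1) : D.C →* D.C).range) ∣ D.k0 hF - 1 := by
  have key := card_dvd_of_stable
    (((powMonoidHom (q + 1) : D.C →* D.C).range).map D.C.subtype) (D.K0 hF).toAddSubgroup ?_
  · rwa [Subgroup.card_map_of_injective D.C.subtype_injective] at key
  rintro _ ⟨u, ⟨a, rfl⟩, rfl⟩ x hx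
  refine (D.K0 hF).mul_mem ?_ hx
  show ((a.1 : Fˣ) ^ (q + 1) : Fˣ).val ∈ D.K0 hF
  rw [Units.val_pow_eq_pow_val]
  refine ⟨norm_fixed hF _, fun b hb => D.scaleB _ a.2 b hb, fun z hz => ?_⟩
  rw [← mu_pow hF]
  induction (q + 1) with
  | zero => simpa using hz
  | succ k ih => rw [pow_succ', mul_assoc]; exact D.scaleZ' a.2 ih

omit hF [Fintype F] in
theorem two_q_sub (a : Fˣ) : (a : F) ^ (q - 1) * (a : F) ^ q = (a : F) ^ (2 * q - 1) := by
  rw [← pow_add]
  rcases Nat.eq_zero_or_pos q with rfl | h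
  · rfl
  · congr 1; omega

omit hF in
theorem card_mu_dvd :
    Nat.card ((powMonoidHom (2 * q - 1) : D.C →* D.C).range) ∣ Nat.card D.Z - 1 := by
  have key := card_dvd_of_stable
    (((powMonoidHom (2 * q - 1) : D.C →* D.C).range).map D.C.subtype) D.Z ?_
  · rwa [Subgroup.card_map_of_injective D.C.subtype_injective] at key
  rintro _ ⟨u, ⟨a, rfl⟩, rfl⟩ x hx
  show ((a.1 : Fˣ) ^ (2 * q - 1) : Fˣ).val * x ∈ D.Z
  rw [Units.val_pow_eq_pow_val, ← two_q_sub]
  exact D.scaleZ' a.2 hx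

include hF in
theorem card_C_dvd_of_B_bot (hB : Nat.card D.B = 1) (hZ : Nat.card D.Z ≠ 1) :
    Nat.card D.C ∣ (2 * q - 1) * (q - 1) := by
  have hb : ∀ b ∈ D.B, b = 0 := fun b hb => by
    rw [AddSubgroup.card_eq_one.1 hB] at hb; exact hb
  obtain ⟨z, hz, hz0⟩ := D.Z.bot_or_exists_ne_zero.resolve_left
    fun e => hZ (AddSubgroup.card_eq_one.2 e)
  refine (IsCyclic.exponent_eq_card (α := D.C)) ▸ Monoid.exponent_dvd_of_forall_pow_eq_one ?_
  rintro ⟨a, ha⟩
  refine Subtype.ext (Units.ext ?_)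
  show ((a ^ ((2 * q - 1) * (q - 1)) : Fˣ) : F) = ((1 : Fˣ) : F)
  rw [Units.val_pow_eq_pow_val, Units.val_one, pow_mul, ← two_q_sub]
  set mu := (a : F) ^ (q - 1) * (a : F) ^ q with hmu
  have hmu0 : mu ≠ 0 := mul_ne_zero (pow_ne_zero _ a.ne_zero) (pow_ne_zero _ a.ne_zero)
  have h1 := hb _ (D.comm z hz _ (D.scaleZ' ha hz))
  rw [← hmu, mul_pow] at h1
  have h2 : (mu ^ q - mu) * (z * z ^ q) = 0 := by linear_combination h1
  rcases mul_eq_zero.1 h2 with h2 | h2
  · rw [pow_q_sub_one hF hmu0, sub_eq_zero.1 h2, div_self hmu0]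
  · exact absurd h2 (mul_ne_zero hz0 (pow_ne_zero _ hz0))

theorem exists_functional (h : Nat.card D.B ≠ q) :
    ∃ φ : F →ₗ[D.K0 hF] D.K0 hF, (∀ b ∈ D.B, φ b = 0) ∧ ∃ v, v + v ^ q = 0 ∧ φ v ≠ 0 := by
  have hlt : D.BS hF < D.V0 hF := lt_of_le_of_ne (D.B_le hF) fun e => h (by
    have : Nat.card (D.BS hF) = q := by rw [e, D.card_V0 hF]
    exact this)
  obtain ⟨v, hv, hvB⟩ := SetLike.exists_of_lt hlt
  obtain ⟨φ, hφ, hB⟩ := Submodule.exists_dual_map_eq_bot_of_notMem hvB inferInstance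
  exact ⟨φ, fun b hb => (Submodule.mem_bot _).1 (hB ▸ Submodule.mem_map_of_mem hb), v, hv, hφ⟩

/-- The alternating form cut out by a functional. -/
def form (φ : F →ₗ[D.K0 hF] D.K0 hF) : F →ₗ[D.K0 hF] F →ₗ[D.K0 hF] D.K0 hF :=
  LinearMap.mk₂ _ (fun x y => φ (x * y ^ q - x ^ q * y))
    (fun x x' y => by rw [← map_add]; congr 1; rw [add_pow_q hF]; ring)
    (fun t x y => by
      rw [← map_smul]; congr 1
      simp only [Subfield.smul_def, smul_eq_mul, mul_pow, t.2.1]; ring)
    (fun x y y' => by rw [← map_add]; congr 1; rw [add_pow_q hF]; ring)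
    (fun t x y => by
      rw [← map_smul]; congr 1
      simp only [Subfield.smul_def, smul_eq_mul, mul_pow, t.2.1]; ring)

theorem form_apply (φ : F →ₗ[D.K0 hF] D.K0 hF) (x y : F) :
    D.form hF φ x y = φ (x * y ^ q - x ^ q * y) := rfl

theorem form_injective {φ : F →ₗ[D.K0 hF] D.K0 hF} {v : F} (hv : v + v ^ q = 0) (hφ : φ v ≠ 0) :
    Function.Injective (D.form hF φ) := by
  refine (injective_iff_map_eq_zero _).2 fun x hx => by_contra fun hx0 => hφ ?_
  obtain ⟨δ, hδ⟩ := exists_sub_pow_eq hF hv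
  have hN : (x * x ^ q) ^ q = x * x ^ q := by rw [mul_pow, pow_q_pow_q hF, mul_comm]
  have := LinearMap.congr_fun hx (x * (-δ / (x * x ^ q)))
  rw [form_apply, LinearMap.zero_apply] at this
  rw [← this]
  congr 1
  rw [mul_pow, div_pow, neg_pow_q hF, hN, ← hδ]
  have : x ^ q ≠ 0 := pow_ne_zero _ hx0
  field_simp
  ring

/-- The restriction of the form to `Z` in the second variable. -/
def restr (φ : F →ₗ[D.K0 hF] D.K0 hF) : F →ₗ[D.K0 hF] Module.Dual (D.K0 hF) (D.ZS hF) :=
  (LinearMap.lcomp _ _ (D.ZS hF).subtype).comp (D.form hF φ)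

theorem restr_surjective {φ : F →ₗ[D.K0 hF] D.K0 hF} {v : F} (hv : v + v ^ q = 0)
    (hφ : φ v ≠ 0) : Function.Surjective (D.restr hF φ) := by
  intro ψ
  obtain ⟨Ψ, hΨ⟩ := LinearMap.exists_extend ψ
  obtain ⟨x, hx⟩ := ((LinearMap.injective_iff_surjective_of_finrank_eq_finrank
    (by rw [Subspace.dual_finrank_eq])).1 (D.form_injective hF hv hφ)) Ψ
  exact ⟨x, by rw [restr, LinearMap.comp_apply, hx]; exact hΨ⟩

theorem Z_le_ker {φ : F →ₗ[D.K0 hF] D.K0 hF} (hB : ∀ b ∈ D.B, φ b = 0) :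
    D.ZS hF ≤ LinearMap.ker (D.restr hF φ) := fun x hx =>
  LinearMap.mem_ker.2 (LinearMap.ext fun z => hB _ (D.comm x hx z.1 z.2))

theorem two_mul_finrank_Z {φ : F →ₗ[D.K0 hF] D.K0 hF} (hB : ∀ b ∈ D.B, φ b = 0) {v : F}
    (hv : v + v ^ q = 0) (hφ : φ v ≠ 0) :
    2 * finrank (D.K0 hF) (D.ZS hF) ≤ finrank (D.K0 hF) F := by
  have h1 := LinearMap.finrank_range_add_finrank_ker (D.restr hF φ)
  rw [LinearMap.range_eq_top.2 (D.restr_surjective hF hv hφ), finrank_top,
    Subspace.dual_finrank_eq] at h1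
  have h2 := Submodule.finrank_mono (D.Z_le_ker hF hB)
  omega

theorem finrank_F : finrank (D.K0 hF) F = 2 * finrank (D.K0 hF) (D.V0 hF) := by
  refine Nat.pow_right_injective (D.two_le_k0 hF) ?_
  show D.k0 hF ^ _ = D.k0 hF ^ _
  rw [mul_comm, pow_mul, ← D.card_space hF, D.card_V0 hF, ← hF, ← Nat.card_eq_fintype_card,
    Module.natCard_eq_pow_finrank (K := D.K0 hF)]
  rfl

include hF in
theorem card_Z_le (h : Nat.card D.B ≠ q) : Nat.card D.Z ≤ q := by
  obtain ⟨φ, hB, v, hv, hφ⟩ := D.exists_functional hF h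
  have := D.two_mul_finrank_Z hF hB hv hφ
  rw [D.finrank_F hF] at this
  show Nat.card (D.ZS hF) ≤ q
  rw [D.card_space hF]
  exact (Nat.pow_le_pow_right (Nat.zero_lt_of_lt (D.two_le_k0 hF)) (by omega)).trans_eq
    ((D.card_space hF (D.V0 hF)).symm.trans (D.card_V0 hF))

include hF in
theorem card_Z_mul_k0_le [CharP F 2] (h : Nat.card D.B ≠ q) :
    Nat.card D.Z * D.k0 hF ≤ q := by
  classical
  obtain ⟨φ, hB, v, hv, hφ⟩ := D.exists_functional hF h
  have hk := D.two_le_k0 hF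
  have hq := two_le_q hF
  have hdim := D.two_mul_finrank_Z hF hB hv hφ
  rw [D.finrank_F hF] at hdim
  have hV : D.k0 hF ^ finrank (D.K0 hF) (D.V0 hF) = q :=
    (D.card_space hF (D.V0 hF)).symm.trans (D.card_V0 hF)
  show Nat.card (D.ZS hF) * D.k0 hF ≤ q
  rw [D.card_space hF, ← pow_succ]
  by_cases hlt : finrank (D.K0 hF) (D.ZS hF) < finrank (D.K0 hF) (D.V0 hF)
  · exact (Nat.pow_le_pow_right (Nat.zero_lt_of_lt hk) hlt).trans_eq hV
  exfalso
  have heq : finrank (D.K0 hF) (D.ZS hF) = finrank (D.K0 hF) (D.V0 hF) := by omega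
  have hcardZ : Nat.card (D.ZS hF) = q := by rw [D.card_space hF, heq, hV]
  have hker : D.ZS hF = LinearMap.ker (D.restr hF φ) := by
    refine Submodule.eq_of_le_of_finrank_eq (D.Z_le_ker hF hB) ?_
    have h1 := LinearMap.finrank_range_add_finrank_ker (D.restr hF φ)
    rw [LinearMap.range_eq_top.2 (D.restr_surjective hF hv hφ), finrank_top,
      Subspace.dual_finrank_eq, D.finrank_F hF] at h1
    omega
  -- the kernel of the functional on the fixed scalars
  let W : Submodule (D.K0 hF) F := D.V0 hF ⊓ LinearMap.ker φ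
  set kq := Nat.card W with hkq
  have hfib : ∀ {S : Type _} [AddCommGroup S] [Module (D.K0 hF) S] [Finite S]
      (f : S →ₗ[D.K0 hF] D.K0 hF) (s : S), f s ≠ 0 → ∀ t,
      Nat.card {z // f z = t} * D.k0 hF = Nat.card S := by
    intro S _ _ _ f s hs t
    have hsurj : Function.Surjective f := LinearMap.surjective (fun e => hs (by rw [e]; rfl))
    obtain ⟨z0, rfl⟩ := hsurj t
    have e1 : Nat.card {z // f z = f z0} = Nat.card (LinearMap.ker f) :=
      Nat.card_congr ((Equiv.subRight z0).subtypeEquiv fun z => by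
        simp [sub_eq_zero])
    have h2 : f.toAddMonoidHom.range = ⊤ := AddMonoidHom.range_eq_top.2 hsurj
    rw [e1, ← AddSubgroup.card_mul_index f.toAddMonoidHom.ker, AddSubgroup.index_ker, h2,
      AddSubgroup.card_top]
    rfl
  have hW : kq * D.k0 hF = q := by
    refine Eq.trans ?_ ((hfib (φ.comp (D.V0 hF).subtype) ⟨v, hv⟩ hφ 0).trans (D.card_V0 hF))
    congr 1
    exact Nat.card_congr
      { toFun := fun x => ⟨⟨x.1, x.2.1⟩, x.2.2⟩
        invFun := fun x => ⟨x.1.1, x.1.2, x.2⟩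
        left_inv := fun _ => rfl
        right_inv := fun _ => rfl }
  have hfix : ∀ x : F, x + x ^ q = 0 → x ^ q = x := fun x hx =>
    (CharTwo.add_eq_zero.1 hx).symm
  have hNV : ∀ x : F, x ^ (q + 1) + (x ^ (q + 1)) ^ q = 0 := fun x => by
    rw [norm_fixed hF, CharTwo.add_self_eq_zero]
  -- zeros counted through norms
  have hz1 : Nat.card {x : F // φ (x ^ (q + 1)) = 0} + (q + 1) = (q + 1) * kq + 1 := by
    have e1 : Nat.card {x : F // φ (x ^ (q + 1)) = 0} =
        ∑ u : W, Nat.card {x : F // x ^ (q + 1) = u} := by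
      rw [← Nat.card_sigma]
      exact Nat.card_congr
        { toFun := fun x => ⟨⟨x.1 ^ (q + 1), hNV _, x.2⟩, x.1, rfl⟩
          invFun := fun p => ⟨p.2.1, by rw [p.2.2]; exact p.1.2.2⟩
          left_inv := fun _ => rfl
          right_inv := fun p => Sigma.subtype_ext (Subtype.ext p.2.2) rfl }
    have e0 : Nat.card {x : F // x ^ (q + 1) = ((0 : W) : F)} = 1 :=
      Nat.card_eq_one_iff_exists.2 ⟨⟨0, by simp⟩, fun x => Subtype.ext (by
        have := x.2; simpa using this)⟩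
    have e2 : ∀ u ∈ (Finset.univ.erase (0 : W)),
        Nat.card {x : F // x ^ (q + 1) = (u : F)} = q + 1 := fun u hu =>
      card_norm_eq hF (hfix _ u.2.1) fun e => (Finset.mem_erase.1 hu).1 (Subtype.ext e)
    rw [e1, ← Finset.add_sum_erase _ _ (Finset.mem_univ (0 : W)), e0, Finset.sum_congr rfl e2,
      Finset.sum_const, Finset.card_erase_of_mem (Finset.mem_univ _), Finset.card_univ,
      smul_eq_mul, ← Nat.card_eq_fintype_card, ← hkq]
    have : 1 ≤ kq := Nat.one_le_iff_ne_zero.2 fun e => by rw [e, zero_mul] at hW; omega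
    obtain ⟨j, hj⟩ := Nat.exists_eq_add_of_le this
    rw [hj, Nat.add_sub_cancel_left]
    ring
  -- zeros counted along the cosets of `Z`
  have hz2 : q * Nat.card {x : F // φ (x ^ (q + 1)) = 0} + q * kq = q * q + q * q * kq := by
    have e1 : q * Nat.card {x : F // φ (x ^ (q + 1)) = 0} =
        ∑ x : F, Nat.card {z : D.ZS hF // φ ((x + z) ^ (q + 1)) = 0} := by
      rw [← Nat.card_sigma]
      refine (congrArg (· * _) hcardZ).symm.trans ?_
      show Nat.card (D.ZS hF) * _ = _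
      rw [← Nat.card_prod]
      exact Nat.card_congr
        { toFun := fun p => ⟨p.2.1 - p.1, p.1, by rw [sub_add_cancel]; exact p.2.2⟩
          invFun := fun p => ⟨p.2.1, p.1 + p.2.1, p.2.2⟩
          left_inv := fun p => by ext <;> simp
          right_inv := fun p => by
            refine Sigma.subtype_ext ?_ rfl
            simp }
    have key : ∀ (x : F) (z : D.ZS hF),
        φ ((x + z) ^ (q + 1)) = φ (x ^ (q + 1)) + D.restr hF φ x z := fun x z => by
      show _ = _ + φ (x * (z : F) ^ q - x ^ q * z)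
      rw [← map_add]
      have hn : φ ((z : F) ^ (q + 1)) = 0 := by
        rw [pow_succ']; exact hB _ (D.norm inferInstance z z.2)
      have : (x + z) ^ (q + 1) = x ^ (q + 1) + (x * (z : F) ^ q - x ^ q * z) + (z : F) ^ (q + 1) := by
        rw [CharTwo.sub_eq_add, pow_succ, add_pow_q hF]; ring
      rw [this, map_add, hn, add_zero]
    have e2 : ∀ x : F, Nat.card {z : D.ZS hF // φ ((x + z) ^ (q + 1)) = 0} =
        if x ∈ D.ZS hF then q else kq := fun x => by
      split_ifs with hx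
      · refine Eq.trans ?_ hcardZ
        refine Nat.card_congr (Equiv.subtypeUnivEquiv fun z => ?_)
        rw [pow_succ']
        exact hB _ (D.norm inferInstance _ ((D.ZS hF).add_mem hx z.2))
      · rw [hker] at hx
        obtain ⟨s, hs⟩ : ∃ s, D.restr hF φ x s ≠ 0 := by
          by_contra! hne
          exact hx (LinearMap.mem_ker.2 (LinearMap.ext hne))
        refine Nat.eq_of_mul_eq_mul_right (Nat.zero_lt_of_lt hk) ?_
        refine Eq.trans ?_ ((hfib (D.restr hF φ x) s hs (-φ (x ^ (q + 1)))).trans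
          (hcardZ.trans hW.symm))
        congr 1
        exact Nat.card_congr (Equiv.subtypeEquivRight fun z => by
          rw [key, eq_neg_iff_add_eq_zero, add_comm])
    rw [e1, Finset.sum_congr rfl fun x _ => e2 x, Finset.sum_ite, Finset.sum_const,
      Finset.sum_const, smul_eq_mul, smul_eq_mul]
    have h1 : (Finset.univ.filter fun x : F => x ∈ D.ZS hF).card = q := by
      rw [← Fintype.card_subtype, ← Nat.card_eq_fintype_card]; exact hcardZ
    have h2 := Finset.card_filter_add_card_filter_not (s := (Finset.univ : Finset F))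
      (fun x => x ∈ D.ZS hF)
    rw [h1, Finset.card_univ, hF] at h2
    rw [h1]
    set r := (Finset.univ.filter fun x : F => ¬ x ∈ D.ZS hF).card
    rw [add_assoc, ← add_mul, add_comm r, h2, sq]
  have : q * kq = q * q := by
    have := congrArg (q * ·) hz1
    simp only [mul_add, mul_one] at this
    nlinarith
  have hk2 : kq = q := Nat.eq_of_mul_eq_mul_left (by omega) this
  rw [hk2] at hW
  nlinarith

include hF in
theorem card_Z_of_B_two [CharP F 2] (h : Nat.card D.B = 2) :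
    Nat.card D.Z ≤ 4 ∧ (¬ 3 ∣ q + 1 → Nat.card D.Z ≤ 2) := by
  classical
  have hN : ∀ z ∈ D.Z, z ≠ 0 → ∀ z' ∈ D.Z, z' ≠ 0 → z * z ^ q = z' * z' ^ q := by
    intro z hz hz0 z' hz' hz0'
    obtain ⟨β, hβ⟩ : ∃ β, ∀ b ∈ D.B, b ≠ 0 → b = β := by
      obtain ⟨y, hy, hy'⟩ := (Nat.card_eq_two_iff' (0 : D.B)).1 h
      exact ⟨y, fun b hb hb0 => congrArg Subtype.val (hy' ⟨b, hb⟩ fun e => hb0 (congrArg Subtype.val e))⟩
    rw [hβ _ (D.norm inferInstance z hz) (mul_ne_zero hz0 (pow_ne_zero _ hz0)),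
      hβ _ (D.norm inferInstance z' hz') (mul_ne_zero hz0' (pow_ne_zero _ hz0'))]
  have hle : ∀ s : Finset F, (∀ z ∈ D.Z, z ∈ s) → Nat.card D.Z ≤ s.card := fun s hs =>
    (Nat.card_le_card_of_injective (fun z : D.Z => (⟨z.1, hs _ z.2⟩ : s))
      fun a b e => Subtype.ext (congrArg (fun u : s => u.1) e)).trans_eq (by simp)
  rcases D.Z.bot_or_exists_ne_zero with hbot | ⟨z1, hz1, hz10⟩
  · have hc : Nat.card D.Z = 1 := by rw [hbot]; simp
    omega
  by_cases hall : ∀ z ∈ D.Z, z = 0 ∨ z = z1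
  · have := (hle {0, z1} fun z hz => by simpa using hall z hz).trans Finset.card_le_two
    omega
  push Not at hall
  obtain ⟨z, hz, hz0, hzne⟩ := hall
  have hroot : ∀ y ∈ D.Z, y ≠ 0 → y ≠ z1 → (y / z1) * (y / z1) ^ q = 1 ∧
      (y / z1) ^ 2 + y / z1 + 1 = 0 := by
    intro y hy hy0 hy1
    have h1 := hN y hy hy0 z1 hz1 hz10
    have h2 := hN (y + z1) (add_mem hy hz1) (fun e => hy1 (CharTwo.add_eq_zero.1 e)) z1 hz1 hz10
    rw [add_pow_q hF] at h2
    have hq1 : z1 ^ q ≠ 0 := pow_ne_zero _ hz10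
    have e1 : y / z1 * (y / z1) ^ q = 1 := by rw [div_pow]; field_simp; linear_combination h1
    refine ⟨e1, ?_⟩
    have e2 : (y / z1 + 1) * ((y / z1) ^ q + 1) = 1 := by
      rw [div_pow]; field_simp; linear_combination h2
    have e3 : (y / z1) ^ q = y / z1 + 1 := by
      linear_combination e2 - e1 - CharTwo.add_self_eq_zero (y / z1) + CharTwo.add_self_eq_zero (0:F) - CharTwo.add_self_eq_zero (1 : F)
    rw [e3] at e1
    linear_combination e1 + CharTwo.add_self_eq_zero (1 : F)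
  obtain ⟨hu1, hu2⟩ := hroot z hz hz0 hzne
  refine ⟨(hle {0, z1, z, z + z1} fun y hy => ?_).trans Finset.card_le_four, fun h3 => absurd ?_ h3⟩
  · simp only [Finset.mem_insert, Finset.mem_singleton]
    by_cases hy0 : y = 0
    · exact Or.inl hy0
    by_cases hy1 : y = z1
    · exact Or.inr (Or.inl hy1)
    obtain ⟨-, hv2⟩ := hroot y hy hy0 hy1
    have : (y / z1 - z / z1) * (y / z1 + z / z1 + 1) = 0 := by linear_combination hv2 - hu2
    rcases mul_eq_zero.1 this with e | e
    · exact Or.inr (Or.inr (Or.inl ((div_left_inj' hz10).1 (sub_eq_zero.1 e))))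
    · refine Or.inr (Or.inr (Or.inr (CharTwo.add_eq_zero.1 ?_)))
      field_simp at e
      linear_combination e
  · have hc : (z / z1) ^ 3 = 1 := by linear_combination (z / z1 - 1) * hu2
    haveI := Fact.mk Nat.prime_three
    have hne : z / z1 ≠ 1 := fun e => hzne (eq_of_div_eq_one e)
    rw [← orderOf_eq_prime hc hne]
    exact orderOf_dvd_of_pow_eq_one (by rw [pow_succ']; exact hu1)

end PointData

end Cfsg.Agent.MinIndexU3
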