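import Cfsg.Agent.MinIndexU3.Kill

/-!
The minimal index of a proper subgroup of `PSU₃(q)` (helper10).
-/

set_option autoImplicit false

namespace Cfsg.Agent.MinIndexU3

open Cfsg.Agent.Unitary MulAction

variable {F : Type*} [Field F] [Fintype F] {q : ℕ} (hF : Fintype.card F = q ^ 2)

include hF

theorem min_index (hq : 3 ≤ q) (h5 : q ≠ 5) :
    (∀ H : Subgroup (Cfsg.PSU 3 F q), H ≠ ⊤ → q ^ 3 + 1 ≤ H.index) ∧
      ∃ H : Subgroup (Cfsg.PSU 3 F q), H.index = q ^ 3 + 1 := by
  let π := QuotientGroup.mk' (Subgroup.center (SU 3 F q))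
  have hπ : Function.Surjective π := QuotientGroup.mk'_surjective _
  have hker : π.ker = Subgroup.center (SU 3 F q) := QuotientGroup.ker_mk' _
  refine ⟨fun H hH => ?_, ?_⟩
  · rw [← Subgroup.index_comap_of_surjective H hπ]
    refine index_gt hF (H.comap π) hq h5 (hker.symm.le.trans (MonoidHom.ker_le_comap π H)) fun e => hH ?_
    rw [← Subgroup.map_comap_eq_self_of_surjective hπ H, e,
      Subgroup.map_top_of_surjective π hπ]
  · haveI : Finite (IsoPt hF 3) :=
      (Nat.card_pos_iff.1 (by rw [card_points hF]; positivity)).2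
    obtain ⟨p⟩ : Nonempty (IsoPt hF 3) :=
      (Nat.card_pos_iff.1 (by rw [card_points hF]; positivity)).1
    refine ⟨(MulAction.stabilizer (SU 3 F q) p).map π, ?_⟩
    rw [Subgroup.index_map_eq _ hπ]
    · haveI := isPretransitive_points hF (n := 3)
      rw [MulAction.index_stabilizer_of_transitive, card_points hF]
    · rw [hker]
      intro g hg
      obtain ⟨r, hr⟩ := (mem_center_iff hF (by norm_num : 2 ≤ 3)).1 hg
      exact MulAction.mem_stabilizer_iff.2 (smul_eq_of_rep hF (hr p.1.rep))

end Cfsg.Agent.MinIndexU3
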