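import Cfsg.Agent.Lib.Unitary.Generation
import Cfsg.Agent.Lib.Unitary.Count
import Cfsg.Agent.Lib.Unitary.Simple

/-!
Coordinates for the stabiliser of an isotropic point of the three-dimensional unitary space
(helper10).
-/

set_option autoImplicit false

namespace Cfsg.Agent.MinIndexU3

open Matrix Cfsg.Agent.Unitary

variable {F : Type*} [Field F] {q : ℕ}

/-- A hyperbolic pair `e`, `f` and a unit vector `w` orthogonal to both. -/
structure Frame3 (q : ℕ) (e f w : Fin 3 → F) : Prop where
  ee : herm q e e = 0
  ff : herm q f f = 0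
  ef : herm q e f = 1
  ww : herm q w w = 1
  we : herm q w e = 0
  wf : herm q w f = 0

variable [Fintype F] (hF : Fintype.card F = q ^ 2) {e f w : Fin 3 → F}

include hF in
theorem exists_frame {e : Fin 3 → F} (he : herm q e e = 0) (he0 : e ≠ 0) :
    ∃ f w, Frame3 q e f w := by
  obtain ⟨f, -, hf, hef⟩ := exists_partner hF (S := ∅) (u := e) (by simp [supp_empty]) he he0
  obtain ⟨w, -, hwe, hwf, hww⟩ := exists_orth_norm hF (S := ∅) (u := e) (v := f) (by simp)
    (by simp [supp_empty]) (by simp [supp_empty]) he hf hef (t := (1 : F)) (one_pow q)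
  exact ⟨f, w, he, hf, hef, hww, hwe, hwf⟩

namespace Frame3

include hF in
theorem fe (h : Frame3 q e f w) : herm q f e = 1 := herm_one_swap hF h.ef

include hF in
theorem ew (h : Frame3 q e f w) : herm q e w = 0 := (herm_eq_zero_comm hF).1 h.we

include hF in
theorem fw (h : Frame3 q e f w) : herm q f w = 0 := (herm_eq_zero_comm hF).1 h.wf

include hF in
theorem e_ne (h : Frame3 q e f w) : e ≠ 0 := ne_zero_of_herm_one hF h.ef

include hF in
theorem herm_comb (h : Frame3 q e f w) (a b c a' b' c' : F) :
    herm q (a • e + b • f + c • w) (a' • e + b' • f + c' • w) =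
      a * b' ^ q + b * a' ^ q + c * c' ^ q := by
  simp only [herm_add_left, herm_add_right hF, herm_smul_left, herm_smul_right hF, h.ee, h.ff,
    h.ef, h.ww, h.we, h.wf, h.fe hF, h.ew hF, h.fw hF]
  ring

include hF in
theorem span_top (h : Frame3 q e f w) : Submodule.span F (Set.range ![e, f, w]) = ⊤ := by
  refine LinearIndependent.span_eq_top_of_card_eq_finrank ?_ (by simp)
  rw [Fintype.linearIndependent_iff]
  intro c hc i
  simp only [Fin.sum_univ_three, Matrix.cons_val_zero, Matrix.cons_val_one,
    Matrix.cons_val_two, Matrix.tail_cons, Matrix.head_cons] at hc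
  have h1 := h.herm_comb hF (c 0) (c 1) (c 2) 1 0 0
  have h2 := h.herm_comb hF (c 0) (c 1) (c 2) 0 1 0
  have h3 := h.herm_comb hF (c 0) (c 1) (c 2) 0 0 1
  rw [hc, herm_zero_left] at h1 h2 h3
  simp [zero_pow_q hF] at h1 h2 h3
  fin_cases i
  · exact h2.symm
  · exact h1.symm
  · exact h3.symm

include hF in
theorem decomp (h : Frame3 q e f w) (x : Fin 3 → F) :
    x = herm q x f • e + herm q x e • f + herm q x w • w := by
  have hx : x ∈ Submodule.span F (Set.range ![e, f, w]) := by rw [h.span_top hF]; trivial
  obtain ⟨c, rfl⟩ := (Submodule.mem_span_range_iff_exists_fun F).1 hx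
  simp [Fin.sum_univ_three, herm_add_left, herm_smul_left, h.ee, h.ff, h.ef, h.ww, h.we, h.wf,
    h.fe hF, h.ew hF, h.fw hF]

include hF in
theorem ext (h : Frame3 q e f w) {g g' : SU 3 F q} (he : g • e = g' • e) (hf : g • f = g' • f)
    (hw : g • w = g' • w) : g = g' := by
  refine eq_of_smul_eq_SU fun x => ?_
  rw [h.decomp hF x]
  simp only [smul_add, smul_comm g, smul_comm g', he, hf, hw]

include hF in
/-- The matrix of an element fixing the point of `e`. -/
theorem exists_coords (h : Frame3 q e f w) {g : SU 3 F q} {a : F} (hg : g • e = a • e) :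
    ∃ b z : F, a ≠ 0 ∧ g • f = b • e + (a ^ q)⁻¹ • f + z • w ∧
      g • w = (-(a ^ q * z ^ q)) • e + (a ^ (q - 1)) • w ∧
      b * a⁻¹ + (a ^ q)⁻¹ * b ^ q + z * z ^ q = 0 := by
  have ha : a ≠ 0 := fun ha => h.e_ne hF ((smul_eq_zero_iff_eq g).1 (by rw [hg, ha, zero_smul]))
  have haq : a ^ q ≠ 0 := pow_ne_zero _ ha
  have hfe : herm q (g • f) e = (a ^ q)⁻¹ := by
    have := herm_smul_SU g f e
    rw [hg, herm_smul_right hF, h.fe hF] at this
    exact eq_inv_of_mul_eq_one_right this
  have hwe : herm q (g • w) e = 0 := by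
    have := herm_smul_SU g w e
    rw [hg, herm_smul_right hF, h.we] at this
    exact (mul_eq_zero.1 this).resolve_left haq
  set b := herm q (g • f) f
  set z := herm q (g • f) w
  set x := herm q (g • w) f
  set β := herm q (g • w) w
  have hgf : g • f = b • e + (a ^ q)⁻¹ • f + z • w := by rw [← hfe]; exact h.decomp hF _
  have hgw : g • w = x • e + β • w := by
    have := h.decomp hF (g • w)
    rwa [hwe, zero_smul, add_zero] at this
  have hdet : a * (a ^ q)⁻¹ * β = 1 := by
    let P : Matrix (Fin 3) (Fin 3) F := Matrix.of fun i j => ![e, f, w] j i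
    let T : Matrix (Fin 3) (Fin 3) F := !![a, b, x; 0, (a ^ q)⁻¹, 0; 0, z, β]
    set M : Matrix (Fin 3) (Fin 3) F :=
      ((g : Matrix.SpecialLinearGroup (Fin 3) F) : Matrix (Fin 3) (Fin 3) F) with hM
    have hcol : ∀ v : Fin 3 → F, M *ᵥ v = g • v := fun v => rfl
    have hMP : M * P = P * T := by
      ext i j
      rw [Matrix.mul_apply]
      change (M *ᵥ (![e, f, w] j)) i = _
      rw [hcol]
      fin_cases j
      · simp [P, T, Matrix.mul_apply, Fin.sum_univ_three, hg]
        ring
      · simp [P, T, Matrix.mul_apply, Fin.sum_univ_three, hgf]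
        ring
      · simp [P, T, Matrix.mul_apply, Fin.sum_univ_three, hgw]
        ring
    have hP : P.det ≠ 0 := by
      intro h0
      obtain ⟨v, hv0, hv⟩ := Matrix.exists_mulVec_eq_zero_iff.2 h0
      apply hv0
      have hli : LinearIndependent F ![e, f, w] :=
        linearIndependent_of_top_le_span_of_card_eq_finrank (h.span_top hF).ge (by simp)
      funext i
      refine Fintype.linearIndependent_iff.1 hli v ?_ i
      funext k
      have := congrFun hv k
      simp only [P, Matrix.mulVec, dotProduct, Matrix.of_apply, Pi.zero_apply] at this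
      simp only [Finset.sum_apply, Pi.smul_apply, smul_eq_mul, Pi.zero_apply]
      rw [← this]
      exact Finset.sum_congr rfl fun j _ => mul_comm _ _
    have h1 := congrArg Matrix.det hMP
    rw [Matrix.det_mul, Matrix.det_mul, hM, Matrix.SpecialLinearGroup.det_coe, one_mul] at h1
    have h2 : T.det = 1 := mul_left_cancel₀ hP (by rw [mul_one]; exact h1.symm)
    rw [Matrix.det_fin_three] at h2
    simpa [T] using h2
  have hβ : β = a ^ (q - 1) := by
    rw [pow_q_sub_one hF ha]
    field_simp at hdet ⊢
    linear_combination hdet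
  have hx : x = -(a ^ q * z ^ q) := by
    have := herm_smul_SU g w f
    rw [hgf, hgw, h.wf, show x • e + β • w = x • e + (0 : F) • f + β • w by simp,
      h.herm_comb hF, inv_pow, pow_q_pow_q hF] at this
    rw [hβ, pow_q_sub_one hF ha] at this
    field_simp at this
    linear_combination this
  refine ⟨b, z, ha, hgf, by rw [hgw, hx, hβ], ?_⟩
  have := herm_smul_SU g f f
  rw [hgf, h.ff, h.herm_comb hF, inv_pow, pow_q_pow_q hF] at this
  linear_combination this

end Frame3

end Cfsg.Agent.MinIndexU3
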