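import Cfsg.Agent.MinIndexU3.LineCount
import Cfsg.Agent.MinIndexU3.Arith
import Cfsg.Agent.Lib.Unitary.Transvection
import Mathlib.GroupTheory.Sylow

/-!
Subgroups of index at most `q³` in `SU₃(q)` (helper10).
-/

set_option autoImplicit false

namespace Cfsg.Agent.MinIndexU3

open Matrix Cfsg.Agent.Unitary MulAction
open scoped LinearAlgebra.Projectivization Pointwise

variable {F : Type*} [Field F] [Fintype F] {q : ℕ} (hF : Fintype.card F = q ^ 2)

include hF

theorem card_SU_three : Nat.card (SU 3 F q) = q ^ 3 * (q ^ 3 + 1) * (q ^ 2 - 1) := by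
  refine Nat.eq_of_mul_eq_mul_left (show 0 < q + 1 by omega) ?_
  rw [card_SU_mul hF (by norm_num), card_GU hF 3]
  simp only [Finset.prod_range_succ, Finset.prod_range_zero, Nat.even_iff]
  norm_num
  ring

theorem card_points : Nat.card (IsoPt hF 3) = q ^ 3 + 1 := by
  classical
  let V := {v : Fin 3 → F // v ≠ 0 ∧ herm q v v = 0}
  have hV : Nat.card V + 1 = nvec 3 F q 0 := by
    rw [nvec, ← Nat.card_congr (Equiv.optionSubtypeNe (⟨0, herm_zero_left 0⟩ :
      {v : Fin 3 → F // herm q v v = 0})), Finite.card_option]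
    congr 1
    exact Nat.card_congr
      { toFun := fun v => ⟨⟨v.1, v.2.2⟩, fun e => v.2.1 (congrArg Subtype.val e)⟩
        invFun := fun v => ⟨v.1.1, fun e => v.2 (Subtype.ext e), v.1.2⟩
        left_inv := fun _ => rfl
        right_inv := fun _ => rfl }
  have hVP : Nat.card (IsoPt hF 3 × Fˣ) = Nat.card V := by
    refine Nat.card_eq_of_bijective
      (fun pa : IsoPt hF 3 × Fˣ => (⟨(pa.2 : F) • pa.1.1.rep,
        smul_ne_zero pa.2.ne_zero pa.1.1.rep_nonzero,
        by rw [herm_smul_left, herm_smul_right hF, pa.1.2, mul_zero, mul_zero]⟩ : V)) ⟨?_, ?_⟩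
    · rintro ⟨p, a⟩ ⟨p', a'⟩ e
      have e' : (a : F) • p.1.rep = (a' : F) • p'.1.rep := congrArg Subtype.val e
      have hp : p = p' := by
        by_contra hne
        refine ne_smul_of_ne hF hne ((a : F)⁻¹ * (a' : F)) ?_
        rw [← smul_smul, ← e', inv_smul_smul₀ a.ne_zero]
      subst hp
      exact Prod.ext rfl (Units.ext (smul_left_injective F p.1.rep_nonzero e'))
    · rintro ⟨v, hv, hvv⟩
      obtain ⟨p, a, ha, hp⟩ := exists_pt hF hv hvv
      exact ⟨(p, Units.mk0 a⁻¹ (inv_ne_zero ha)), Subtype.ext (by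
        show a⁻¹ • p.1.rep = v
        rw [hp, inv_smul_smul₀ ha])⟩
  rw [Nat.card_prod, Nat.card_units, Nat.card_eq_fintype_card (α := F), hF] at hVP
  have hz := nvec_zero_formula hF 3
  rw [if_neg (by decide), show 3 - 1 = 2 from rfl] at hz
  have := two_le_q hF
  refine Nat.eq_of_mul_eq_mul_right (show 0 < q ^ 2 - 1 by
    have : 4 ≤ q ^ 2 := by nlinarith
    omega) ?_
  omega

theorem exists_frame_of_norm_one {v : Fin 3 → F} (hv : herm q v v = 1) :
    ∃ e f, Frame3 q e f v := by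
  obtain ⟨e₀, he0, he00⟩ : ∃ e₀ : Fin 3 → F, herm q e₀ e₀ = 0 ∧ e₀ ≠ 0 := by
    have hne : Nonempty (IsoPt hF 3) :=
      (Nat.card_pos_iff.1 (by rw [card_points hF]; positivity)).1
    obtain ⟨p⟩ := hne
    exact ⟨_, p.2, p.1.rep_nonzero⟩
  obtain ⟨f₀, w₀, h⟩ := exists_frame hF he0 he00
  obtain ⟨g, -, hg⟩ := exists_fixGU_smul_eq hF (S := ∅) (x := w₀) (x' := v)
    (by simp [supp_empty]) (by simp [supp_empty]) (by rw [h.ww, hv]) (by rw [h.ww]; exact one_ne_zero)
  refine ⟨g • e₀, g • f₀, ?_⟩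
  rw [← hg]
  constructor <;> rw [herm_smul_GU]
  exacts [h.ee, h.ff, h.ef, h.ww, h.we, h.wf]

variable (H : Subgroup (SU 3 F q))

theorem rep_of_smul_eq {g : SU 3 F q} {p p' : IsoPt hF 3} (hg : g • p = p') :
    ∃ a : F, a ≠ 0 ∧ g • p.1.rep = a • p'.1.rep := by
  have h1 : g • p.1 = p'.1 := congrArg Subtype.val hg
  rw [← p.1.mk_rep, smul_mk_SU, ← p'.1.mk_rep] at h1
  obtain ⟨a, ha⟩ := (Projectivization.mk_eq_mk_iff' F _ _ _ _).1 h1
  exact ⟨a, fun e => (smul_ne_zero_iff_ne g).2 p.1.rep_nonzero (by rw [← ha, e, zero_smul]),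
    ha.symm⟩

theorem card_orbit_mul (p : IsoPt hF 3) :
    Nat.card (orbit H p) * Nat.card (stabP H p.1.rep) = Nat.card H := by
  rw [← Subgroup.card_mul_index (MulAction.stabilizer H p), MulAction.index_stabilizer,
    ← Nat.card_coe_set_eq, mul_comm]
  congr 1
  refine Nat.card_congr
    { toFun := fun g => ⟨⟨g.1, g.2.1⟩, ?_⟩
      invFun := fun g => ⟨g.1.1, g.1.2, rep_of_smul_eq hF (p := p) (p' := p) g.2⟩
      left_inv := fun _ => rfl
      right_inv := fun _ => rfl }
  obtain ⟨-, a, -, ha⟩ := g.2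
  exact MulAction.mem_stabilizer_iff.2 (smul_eq_of_rep hF ha)

theorem mem_cset_iff {e f w : Fin 3 → F} (h : Frame3 q e f w) {a : Fˣ} :
    a ∈ cset hF H h ↔ ∃ g ∈ H, g • e = (a : F) • e := by
  refine ⟨mem_cset hF H h, fun ⟨g, hg, hge⟩ => ⟨⟨g, hg, a, a.ne_zero, hge⟩, Units.ext ?_⟩⟩
  show herm q (g • e) f = (a : F)
  rw [hge, herm_smul_left, h.ef, mul_one]

/-- Transitivity of a subgroup of small index on the isotropic points. -/
theorem transitive_of_index_le (hi : H.index ≤ q ^ 3) : ∀ p p' : IsoPt hF 3, ∃ g ∈ H, g • p = p' := by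
  classical
  haveI : Finite (IsoPt hF 3) :=
    (Nat.card_pos_iff.1 (by rw [card_points hF]; positivity)).2
  obtain ⟨pr, k, hpr, hk, hchar, hqp⟩ := exists_prime_pow hF
  haveI := hchar
  haveI := Fact.mk hpr
  have hq := two_le_q hF
  have h4 : 4 ≤ q ^ 2 := by nlinarith
  have hH : (q ^ 3 + 1) * (q ^ 2 - 1) ≤ Nat.card H := by
    have h1 := Subgroup.card_mul_index H
    rw [card_SU_three hF] at h1
    refine Nat.le_of_mul_le_mul_right ?_ (show 0 < q ^ 3 by positivity)
    calc (q ^ 3 + 1) * (q ^ 2 - 1) * q ^ 3 = q ^ 3 * (q ^ 3 + 1) * (q ^ 2 - 1) := by ring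
      _ = Nat.card H * H.index := h1.symm
      _ ≤ Nat.card H * q ^ 3 := Nat.mul_le_mul_left _ hi
  by_cases hA : ∃ p : IsoPt hF 3, Nat.card (axisA H p.1.rep) = 1
  · obtain ⟨p, hp⟩ := hA
    obtain ⟨f, w, h⟩ := exists_frame hF p.2 p.1.rep_nonzero
    have hs : Nat.card (stabP H p.1.rep) ≤ q ^ 2 - 1 := by
      rw [card_stabP hF H h, hp, one_mul]
      exact Nat.le_of_dvd (by omega) (card_cset_dvd hF H h)
    have horb : orbit H p = Set.univ := by
      refine Set.eq_of_subset_of_ncard_le (Set.subset_univ _) ?_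
      rw [Set.ncard_univ, card_points hF, ← Nat.card_coe_set_eq]
      refine Nat.le_of_mul_le_mul_right ?_ (show 0 < q ^ 2 - 1 by omega)
      calc (q ^ 3 + 1) * (q ^ 2 - 1) ≤ Nat.card H := hH
        _ = Nat.card (orbit H p) * Nat.card (stabP H p.1.rep) := (card_orbit_mul hF H p).symm
        _ ≤ _ := Nat.mul_le_mul_left _ hs
    intro p₁ p₂
    obtain ⟨⟨g₁, hg₁⟩, h1⟩ := MulAction.mem_orbit_iff.1 (horb.symm ▸ Set.mem_univ p₁ : p₁ ∈ orbit H p)
    obtain ⟨⟨g₂, hg₂⟩, h2⟩ := MulAction.mem_orbit_iff.1 (horb.symm ▸ Set.mem_univ p₂ : p₂ ∈ orbit H p)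
    exact ⟨g₂ * g₁⁻¹, mul_mem hg₂ (inv_mem hg₁), by
      rw [← show g₁ • p = p₁ from h1, mul_smul, inv_smul_smul]; exact h2⟩
  · push Not at hA
    have hSyl : ∀ p : IsoPt hF 3, ∃ S : Sylow pr H,
        ∀ p' : IsoPt hF 3, (∀ s ∈ S, s • p' = p') ↔ p' = p := by
      intro p
      obtain ⟨f, w, h⟩ := exists_frame hF p.2 p.1.rep_nonzero
      have hle : axisA H p.1.rep ≤ H := fun g hg => hg.1
      have hPG : IsPGroup pr ((axisA H p.1.rep).subgroupOf H) := by
        obtain ⟨kz, hkz⟩ := pow_char_addSubgroup hF pr (zset hF H h)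
        obtain ⟨kb, hkb⟩ := pow_char_addSubgroup hF pr (bset hF H h)
        refine IsPGroup.of_card (n := kz + kb) ?_
        rw [Nat.card_congr (Subgroup.subgroupOfEquivOfLe hle).toEquiv, card_axisA hF H h, hkz, hkb,
          pow_add]
      obtain ⟨S, hS⟩ := hPG.exists_le_sylow
      have hfix : ∀ p' : IsoPt hF 3, (∀ s ∈ S, s • p' = p') → p' = p := by
        intro p' hp'
        obtain ⟨⟨u, hu⟩, hne⟩ : ∃ u : axisA H p.1.rep, u ≠ 1 := by
          by_contra! hall
          exact hA p (Nat.card_eq_one_iff_exists.2 ⟨1, hall⟩)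
        obtain ⟨a, -, ha⟩ := rep_of_smul_eq hF
          (show u • p' = p' from hp' ⟨u, hu.1⟩ (hS (Subgroup.mem_subgroupOf.2 hu)))
        obtain ⟨k', hk'⟩ := unip_fix hF h hu.2 (fun e => hne (Subtype.ext e)) p'.2 ha
        by_contra hne'
        exact ne_smul_of_ne hF hne' k' hk'
      refine ⟨S, fun p' => ⟨hfix p', ?_⟩⟩
      rintro rfl
      obtain ⟨p₀, hp₀⟩ := S.isPGroup'.nonempty_fixed_point_of_prime_not_dvd_card (IsoPt hF 3) (by
        rw [card_points hF, hqp, ← pow_mul]
        intro hd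
        exact hpr.one_lt.ne' (Nat.dvd_one.1 ((Nat.dvd_add_right (dvd_pow_self _ (by omega))).1 hd)))
      have hall : ∀ s ∈ S, s • p₀ = p₀ := fun s hs => hp₀ ⟨s, hs⟩
      obtain rfl := hfix p₀ hall
      exact hall
    intro p p'
    obtain ⟨S, hS⟩ := hSyl p
    obtain ⟨S', hS'⟩ := hSyl p'
    obtain ⟨g, rfl⟩ := MulAction.exists_smul_eq H S S'
    refine ⟨g.1, g.2, (hS' (g • p)).1 fun s hs => ?_⟩
    have hs' : g⁻¹ * s * g ∈ S := by
      have h1 : s ∈ (MulAut.conj g • S.toSubgroup : Subgroup H) := hs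
      rw [Subgroup.mem_pointwise_smul_iff_inv_smul_mem] at h1
      simp [MulAut.smul_def] at h1
      exact h1
    have := (hS p).2 rfl _ hs'
    rwa [mul_smul, mul_smul, inv_smul_eq_iff] at this

theorem exists_neg_eigen (htwo : (2 : F) ≠ 0) {y : SU 3 F q} (hy : y * y = 1) (hy1 : y ≠ 1) :
    ∃ e : Fin 3 → F, herm q e e = 0 ∧ e ≠ 0 ∧ y • e = (-1 : F) • e := by
  have hyy : ∀ x : Fin 3 → F, y • y • x = x := fun x => by rw [← mul_smul, hy, one_smul]
  obtain ⟨x, hx⟩ : ∃ x : Fin 3 → F, y • x ≠ x := by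
    by_contra! h
    exact hy1 (eq_of_smul_eq_SU fun v => by rw [h v, one_smul])
  set v := x - y • x with hv
  have hv0 : v ≠ 0 := sub_ne_zero.2 (Ne.symm hx)
  have hyv : y • v = (-1 : F) • v := by rw [hv, smul_sub, hyy, neg_one_smul, neg_sub]
  by_cases hvv : herm q v v = 0
  · exact ⟨v, hvv, hv0, hyv⟩
  obtain ⟨a, ha⟩ := exists_norm_eq hF (t := (herm q v v)⁻¹) (by
    rw [inv_pow, herm_self_fixed hF])
  obtain ⟨e, f, h⟩ := exists_frame_of_norm_one hF (v := a • v) (by
    rw [herm_smul_left, herm_smul_right hF, ← mul_assoc, ← pow_succ', ha, inv_mul_cancel₀ hvv])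
  set w := a • v with hw
  have hyw : y • w = (-1 : F) • w := by rw [hw, smul_comm y, hyv, smul_comm]
  clear_value w
  by_cases hall : y • e = e ∧ y • f = f
  · exfalso
    obtain ⟨b, z, -, g2, -⟩ := coords_unip hF h hall.1
    have := congrArg (fun u => herm q u w) (g2.symm.trans hyw)
    simp [herm_add_left, herm_smul_left, herm_neg_left, h.ew hF, h.ww] at this
    exact htwo (by linear_combination this)
  obtain ⟨x', hx', hx'w⟩ : ∃ x', y • x' ≠ x' ∧ herm q x' w = 0 := by
    rcases not_and_or.1 hall with h1 | h1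
    · exact ⟨e, h1, h.ew hF⟩
    · exact ⟨f, h1, h.fw hF⟩
  set u := x' - y • x' with hu
  have hu0 : u ≠ 0 := sub_ne_zero.2 (Ne.symm hx')
  have hyu : y • u = (-1 : F) • u := by rw [hu, smul_sub, hyy, neg_one_smul, neg_sub]
  have hq1 : (-1 : F) ^ q ≠ 0 := pow_ne_zero _ (neg_ne_zero.2 one_ne_zero)
  have huw : herm q u w = 0 := by
    rw [hu, herm_sub_left, hx'w, zero_sub, neg_eq_zero]
    have := herm_smul_SU y x' w
    rw [hyw, herm_smul_right hF, hx'w] at this
    exact (mul_eq_zero.1 this).resolve_left hq1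
  by_cases huu : herm q u u = 0
  · exact ⟨u, huu, hu0, hyu⟩
  obtain ⟨s, hs⟩ := exists_norm_eq hF (t := -(herm q u u)⁻¹) (by
    rw [neg_pow_q hF, inv_pow, herm_self_fixed hF])
  refine ⟨w + s • u, ?_, fun e0 => ?_, ?_⟩
  · rw [herm_add_left, herm_add_right hF, herm_add_right hF, herm_smul_left, herm_smul_left,
      herm_smul_right hF, herm_smul_right hF, h.ww, huw, (herm_eq_zero_comm hF).1 huw]
    rw [pow_succ] at hs
    field_simp at hs
    linear_combination hs
  · have := congrArg (fun t => herm q t w) e0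
    simp [herm_add_left, herm_smul_left, h.ww, huw] at this
  · rw [smul_add, smul_comm y s, hyw, hyu, smul_comm s (-1 : F), ← smul_add]

omit H in
theorem conj_tv {v : Fin 3 → F} {c : F} (g : SU 3 F q) (hv : herm q v v = 0) (hc : c + c ^ q = 0)
    (hgv : herm q (g • v) (g • v) = 0) :
    g * tv hF hv hc * g⁻¹ = tv hF hgv hc := by
  refine eq_of_smul_eq_SU fun x => ?_
  have : herm q (g⁻¹ • x) v = herm q x (g • v) := by
    conv_rhs => rw [← smul_inv_smul g x, herm_smul_SU]
  rw [mul_smul, mul_smul, tv_smul, tv_smul, smul_add, smul_inv_smul, smul_comm g, this]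

/-- The possible orders of point stabilisers in a proper subgroup of index at most `q³`. -/
theorem stabiliser_cases (hq : 3 ≤ q) (h5 : q ≠ 5) (hi : H.index ≤ q ^ 3) (hne : H ≠ ⊤)
    (p : IsoPt hF 3) :
    ((q = 3 ∧ Nat.card (stabP H p.1.rep) = 8) ∨ (q = 8 ∧ Nat.card (stabP H p.1.rep) = 72) ∨
      (q = 9 ∧ Nat.card (stabP H p.1.rep) = 108) ∨ (q = 11 ∧ Nat.card (stabP H p.1.rep) = 330)) ∧
    Nat.card H = (q ^ 3 + 1) * Nat.card (stabP H p.1.rep) := by
  classical
  haveI : Finite (IsoPt hF 3) :=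
    (Nat.card_pos_iff.1 (by rw [card_points hF]; positivity)).2
  have htr := transitive_of_index_le hF H hi
  have hcardH : Nat.card H = (q ^ 3 + 1) * Nat.card (stabP H p.1.rep) := by
    rw [← card_orbit_mul hF H p, ← card_points hF]
    congr 1
    exact Nat.card_congr (Equiv.subtypeUnivEquiv fun p' => by
      obtain ⟨g, hg, h⟩ := htr p p'; exact ⟨⟨g, hg⟩, h⟩)
  refine ⟨?_, hcardH⟩
  obtain ⟨pr, k, hpr, hk, hchar, hqp⟩ := exists_prime_pow hF
  haveI := hchar
  haveI := Fact.mk hpr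
  have h4 : 4 ≤ q ^ 2 := by nlinarith
  obtain ⟨f, w, h⟩ := exists_frame hF p.2 p.1.rep_nonzero
  set e := p.1.rep with he
  let D := pointData hF H h
  have htrv : ∀ e' : Fin 3 → F, herm q e' e' = 0 → e' ≠ 0 →
      ∃ g ∈ H, ∃ k : F, k ≠ 0 ∧ g • e = k • e' := by
    intro e' he' he0'
    obtain ⟨p', a, ha, hp'⟩ := exists_pt hF he0' he'
    obtain ⟨g, hg, hgp⟩ := htr p p'
    obtain ⟨b, hb, hgb⟩ := rep_of_smul_eq hF hgp
    exact ⟨g, hg, b * a, mul_ne_zero hb ha, by rw [hgb, hp', smul_smul]⟩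
  have hfull : Nat.card (bset hF H h) ≠ q := by
    intro hfull
    apply hne
    rw [eq_top_iff, ← closure_transvections hF (n := 3) (by omega), Subgroup.closure_le]
    rintro A ⟨v, c, hv, hA⟩
    by_cases hv0 : v = 0
    · have : A = 1 := by
        refine Subtype.ext (Subtype.ext ?_)
        rw [hA, hv0]
        simp [unitaryTransvection]
      rw [this]; exact one_mem H
    by_cases hc0 : c = 0
    · have : A = 1 := by
        refine Subtype.ext (Subtype.ext ?_)
        rw [hA, hc0]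
        simp [unitaryTransvection]
      rw [this]; exact one_mem H
    have hA' : ∀ x : Fin 3 → F, A • x = x + (c * herm q x v) • v := fun x => by
      show ((A : Matrix.SpecialLinearGroup (Fin 3) F) : Matrix (Fin 3) (Fin 3) F) *ᵥ x = _
      rw [hA, unitaryTransvection_mulVec hF]
    have hc : c + c ^ q = 0 := by
      refine trace_zero_of_preserves hF hv0 hv fun x y => ?_
      have := herm_smul_SU A x y
      rw [hA', hA'] at this
      rw [unitaryTransvection_mulVec hF, unitaryTransvection_mulVec hF]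
      exact this
    obtain ⟨g, hg, a, ha, hga⟩ := htrv v hv hv0
    have hv' : v = g • (a⁻¹ • e) := by rw [smul_comm g, hga, inv_smul_smul₀ ha]
    have hae : herm q (a⁻¹ • e) (a⁻¹ • e) = 0 := by
      rw [herm_smul_left, herm_smul_right hF, h.ee, mul_zero, mul_zero]
    have key : A = g * tv hF hae hc * g⁻¹ := by
      rw [conj_tv hF g hae hc (hv' ▸ hv)]
      exact eq_of_smul_eq_SU fun x => by rw [hA', tv_smul, ← hv']
    rw [key]
    exact mul_mem (mul_mem hg (tv_mem_of_full hF H h hfull hae hc)) (inv_mem hg)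
  -- numerical data
  have hstab : Nat.card (stabP H e) =
      Nat.card (zset hF H h) * Nat.card (bset hF H h) * Nat.card (cset hF H h) := by
    rw [card_stabP hF H h, card_axisA hF H h]
  have hlarge : q ^ 2 - 1 ≤ Nat.card (stabP H e) := by
    have h1 := Subgroup.card_mul_index H
    rw [card_SU_three hF, hcardH] at h1
    refine Nat.le_of_mul_le_mul_right ?_ (show 0 < q ^ 3 by positivity)
    refine Nat.le_of_mul_le_mul_left ?_ (show 0 < q ^ 3 + 1 by positivity)
    calc (q ^ 3 + 1) * ((q ^ 2 - 1) * q ^ 3) = q ^ 3 * (q ^ 3 + 1) * (q ^ 2 - 1) := by ring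
      _ = (q ^ 3 + 1) * Nat.card (stabP H e) * H.index := h1.symm
      _ ≤ (q ^ 3 + 1) * Nat.card (stabP H e) * q ^ 3 := Nat.mul_le_mul_left _ hi
      _ = _ := mul_assoc _ _ _
  have hone : ∀ S : AddSubgroup F, Nat.card S ≠ 1 → ∃ x ∈ S, x ≠ 0 := fun S hS =>
    S.bot_or_exists_ne_zero.resolve_left fun e0 => hS (AddSubgroup.card_eq_one.2 e0)
  have hnum : Numeric pr q (Nat.card (zset hF H h)) (Nat.card (bset hF H h))
      (Nat.card (cset hF H h)) (D.k0 hF) := by
    refine ⟨hpr, ⟨k, hqp⟩, pow_char_addSubgroup hF pr _, pow_char_addSubgroup hF pr _, hq, h5,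
      hstab ▸ hlarge, card_cset_dvd hF H h, D.two_le_k0 hF, D.k0_mul_card_B hF hfull,
      fun hb => D.k0_le_card_B hF hb, ?_, ?_, fun hb hz => D.card_C_dvd_of_B_bot hF hb hz,
      D.card_Z_le hF hfull, ?_, ?_, ?_, ?_, ?_⟩
    · intro m hm
      refine dvd_trans (dvd_of_eq ?_) (D.card_nu_dvd hF)
      refine Nat.eq_of_mul_eq_mul_right (Nat.gcd_pos_of_pos_right (Nat.card (cset hF H h)) (Nat.succ_pos q)) ?_
      exact hm.trans (card_pow_range (cset hF H h) (q + 1)).symm
    · intro M hM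
      refine dvd_trans (dvd_of_eq ?_) D.card_mu_dvd
      refine Nat.eq_of_mul_eq_mul_right (Nat.gcd_pos_of_pos_right (Nat.card (cset hF H h)) (by omega : 0 < 2 * q - 1)) ?_
      exact hM.trans (card_pow_range (cset hF H h) (2 * q - 1)).symm
    · intro hp2
      subst hp2
      exact D.card_Z_mul_k0_le hF hfull
    · intro hp2 hz hb
      subst hp2
      obtain ⟨z, hz, hz0⟩ := hone _ hz
      have := bset_norm hF H h hz
      rw [AddSubgroup.card_eq_one.1 hb] at this
      exact mul_ne_zero hz0 (pow_ne_zero _ hz0) this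
    · intro hp2 hb
      subst hp2
      exact D.card_Z_of_B_two hF hb
    · intro hp2
      have htwo : (2 : F) ≠ 0 := Ring.two_ne_zero (by rwa [ringChar.eq F pr])
      have hqo : Odd q := hqp ▸ (hpr.odd_of_ne_two hp2).pow
      have heven : 2 ∣ Nat.card H := by
        rw [hcardH]
        exact dvd_mul_of_dvd_left (even_iff_two_dvd.1 ((hqo.pow).add_odd odd_one)) _
      obtain ⟨⟨y, hy⟩, hy2⟩ := exists_prime_orderOf_dvd_card' 2 heven
      have hyy : y * y = 1 := by
        have := pow_orderOf_eq_one (⟨y, hy⟩ : H)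
        rw [hy2, pow_two] at this
        exact congrArg Subtype.val this
      have hy1 : y ≠ 1 := by
        rintro rfl
        rw [show (⟨1, hy⟩ : H) = 1 from rfl, orderOf_one] at hy2
        omega
      obtain ⟨e', he', he0', hye⟩ := exists_neg_eigen hF htwo hyy hy1
      obtain ⟨g, hg, a, ha, hga⟩ := htrv e' he' he0'
      have hm : (-1 : Fˣ) ∈ cset hF H h := (mem_cset_iff hF H h).2
        ⟨g⁻¹ * y * g, mul_mem (mul_mem (inv_mem hg) hy) hg, by
          rw [mul_smul, mul_smul, hga, smul_comm y, hye, inv_smul_eq_iff, smul_comm g, hga,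
            Units.val_neg, Units.val_one, smul_comm]⟩
      have := orderOf_dvd_natCard (⟨-1, hm⟩ : cset hF H h)
      rw [← Subgroup.orderOf_coe] at this
      rwa [orderOf_eq_prime (p := 2) (by norm_num) (fun e0 => htwo (by
        have h1 : ((-1 : Fˣ) : F) = ((1 : Fˣ) : F) := congrArg Units.val e0
        rw [Units.val_neg, Units.val_one] at h1
        linear_combination -h1))] at this
    · intro hg3 m hm
      obtain ⟨⟨α, hαC⟩, hα, hα3⟩ : ∃ a : cset hF H h,
          a ^ (q + 1) = 1 ∧ a ^ 3 ≠ 1 := by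
        by_contra! hall
        apply hg3
        have hle : (powMonoidHom (q + 1) : cset hF H h →* cset hF H h).ker ≤
            (powMonoidHom 3 : cset hF H h →* cset hF H h).ker := fun a ha =>
          MonoidHom.mem_ker.2 (hall a (MonoidHom.mem_ker.1 ha))
        have := Subgroup.card_dvd_of_le hle
        rw [IsCyclic.card_powMonoidHom_ker, IsCyclic.card_powMonoidHom_ker] at this
        exact this.trans (Nat.gcd_dvd_right _ _)
      obtain ⟨g, hg, hge⟩ := mem_cset hF H h hαC
      have hα' : (α : F) ^ (q + 1) = 1 := by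
        simpa using congrArg (fun a : cset hF H h => ((a : Fˣ) : F)) hα
      have hα3' : (α : F) ^ 3 ≠ 1 := fun e0 => hα3 (Subtype.ext (Units.ext (by simpa using e0)))
      obtain ⟨f', w', h', t, ht, β, hte, htf, htw, hβne, hβ2⟩ :=
        exists_diag hF H h hg hge hα' hα3'
      have horb := orbit_equation hF H h' htrv ht hte htf htw hα' hβne hβ2
      have hC : cset hF H h' = cset hF H h := by
        ext a; rw [mem_cset_iff hF H h', mem_cset_iff hF H h]
      have hmeq : Nat.card ((powMonoidHom (q + 1) : cset hF H h' →* cset hF H h').range) = m := by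
        refine (congrArg (fun C : Subgroup Fˣ =>
          Nat.card ((powMonoidHom (q + 1) : C →* C).range)) hC).trans ?_
        refine Nat.eq_of_mul_eq_mul_right (Nat.gcd_pos_of_pos_right (Nat.card (cset hF H h)) (Nat.succ_pos q)) ?_
        exact (card_pow_range (cset hF H h) (q + 1)).trans hm.symm
      rw [← card_bset_frame hF H h h', hmeq] at horb
      exact horb
  rw [hstab]
  exact numeric_cases hnum

end Cfsg.Agent.MinIndexU3
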