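import Cfsg.Agent.MinIndexU3.Global
import Mathlib.GroupTheory.Transfer

/-!
The exceptional orders are impossible (helper10).
-/

set_option autoImplicit false

namespace Cfsg.Agent.MinIndexU3

open Matrix Cfsg.Agent.Unitary MulAction
open scoped LinearAlgebra.Projectivization

variable {F : Type*} [Field F] [Fintype F] {q : ℕ} (hF : Fintype.card F = q ^ 2)
variable (H : Subgroup (SU 3 F q))

include hF

omit H in
/-- An element without eigenvectors commutes with no involution. -/
theorem commute_involution {x y : SU 3 F q}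
    (hx : ∀ (v : Fin 3 → F) (a : F), v ≠ 0 → x • v ≠ a • v) (hy : y * y = 1)
    (hxy : x * y = y * x) : y = 1 := by
  by_contra hy1
  let X : (Fin 3 → F) →ₗ[F] (Fin 3 → F) :=
    { toFun := fun v => x • v
      map_add' := smul_add x
      map_smul' := fun a v => smul_comm x a v }
  let D : (Fin 3 → F) →ₗ[F] (Fin 3 → F) :=
    { toFun := fun v => y • v - v
      map_add' := fun a b => by rw [smul_add]; abel
      map_smul' := fun a v => by rw [smul_comm y a, RingHom.id_apply, smul_sub] }
  have hXD : ∀ v, X (D v) = D (X v) := fun v => by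
    show x • (y • v - v) = y • x • v - x • v
    rw [smul_sub, ← mul_smul, hxy, mul_smul]
  have line : ∀ S : Submodule F (Fin 3 → F), Module.finrank F S = 1 → (∀ v ∈ S, X v ∈ S) → False := by
    intro S hS hst
    obtain ⟨⟨v, hv⟩, hv0, hgen⟩ := finrank_eq_one_iff'.1 hS
    obtain ⟨a, ha⟩ := hgen ⟨X v, hst v hv⟩
    exact hx v a (fun e => hv0 (Subtype.ext e)) (congrArg Subtype.val ha).symm
  have hrn := LinearMap.finrank_range_add_finrank_ker D
  rw [Module.finrank_fintype_fun_eq_card, Fintype.card_fin] at hrn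
  rcases (show Module.finrank F D.range = 0 ∨ Module.finrank F D.range = 1 ∨
    Module.finrank F D.range = 2 ∨ Module.finrank F D.range = 3 by omega) with h | h | h | h
  · refine hy1 (eq_of_smul_eq_SU fun v => ?_)
    rw [one_smul, ← sub_eq_zero]
    have hm : D v ∈ D.range := ⟨v, rfl⟩
    rw [Submodule.finrank_eq_zero.1 h] at hm
    exact hm
  · exact line _ h (by rintro _ ⟨u, rfl⟩; exact ⟨X u, (hXD u).symm⟩)
  · refine line D.ker (by omega) fun v hv => ?_
    rw [LinearMap.mem_ker] at hv ⊢
    rw [← hXD, hv, map_zero]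
  · have hsurj : Function.Surjective D := LinearMap.range_eq_top.1
      (Submodule.eq_top_of_finrank_eq (by rw [h, Module.finrank_fintype_fun_eq_card, Fintype.card_fin]))
    have hneg : ∀ v : Fin 3 → F, y • v = (-1 : F) • v := fun v => by
      obtain ⟨u, rfl⟩ := hsurj v
      show y • (y • u - u) = (-1 : F) • (y • u - u)
      rw [smul_sub, ← mul_smul, hy, one_smul, neg_one_smul, neg_sub]
    by_cases htwo : (2 : F) = 0
    · refine hy1 (eq_of_smul_eq_SU fun v => ?_)
      have h1 : (-1 : F) = 1 := by linear_combination -htwo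
      rw [hneg v, h1, one_smul, one_smul]
    · obtain ⟨p⟩ : Nonempty (IsoPt hF 3) :=
        (Nat.card_pos_iff.1 (by rw [card_points hF]; positivity)).1
      obtain ⟨f, w, h'⟩ := exists_frame hF p.2 p.1.rep_nonzero
      obtain ⟨b, z, -, -, g2, -⟩ := h'.exists_coords hF (hneg p.1.rep)
      have hev : Even (q - 1) := by
        obtain ⟨pr, k, hpr, -, hc, hqp⟩ := exists_prime_pow hF
        haveI := hc
        have hp2 : pr ≠ 2 := by rintro rfl; exact htwo (CharP.cast_eq_zero F 2)
        exact Nat.Odd.sub_odd (hqp ▸ (hpr.odd_of_ne_two hp2).pow) odd_one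
      rw [hneg, hev.neg_one_pow] at g2
      have := congrArg (fun u => herm q u w) g2
      simp [herm_add_left, herm_smul_left, herm_neg_left, h'.ew hF, h'.ww] at this
      exact htwo (by linear_combination -this)

omit H in
/-- An element without eigenvectors is not conjugate to its inverse. -/
theorem not_inverted {x y : SU 3 F q}
    (hx : ∀ (v : Fin 3 → F) (a : F), v ≠ 0 → x • v ≠ a • v) : y * x * y⁻¹ ≠ x⁻¹ := by
  intro h
  let φ : SU 3 F q → Matrix (Fin 3) (Fin 3) F := fun g =>
    ((g : Matrix.SpecialLinearGroup (Fin 3) F) : Matrix (Fin 3) (Fin 3) F)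
  have hmul : ∀ a b, φ (a * b) = φ a * φ b := fun a b => rfl
  have hinv : φ x⁻¹ = Matrix.adjugate (φ x) := by
    show ((x⁻¹ : SU 3 F q) : Matrix.SpecialLinearGroup (Fin 3) F).1 = _
    rw [Subgroup.coe_inv, Matrix.SpecialLinearGroup.coe_inv]
  have htr : Matrix.trace (Matrix.adjugate (φ x)) = Matrix.trace (φ x) := by
    rw [← hinv, ← h, hmul, hmul, Matrix.trace_mul_cycle, ← hmul, inv_mul_cancel]
    show Matrix.trace ((1 : Matrix (Fin 3) (Fin 3) F) * φ x) = _
    rw [one_mul]
  set M := φ x with hM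
  have hdetM : M.det = 1 := x.1.2
  rw [Matrix.trace_fin_three, Matrix.trace_fin_three, Matrix.adjugate_fin_three] at htr
  simp at htr
  rw [Matrix.det_fin_three] at hdetM
  have hdet : (M - 1).det = 0 := by
    rw [Matrix.det_fin_three]
    simp
    linear_combination hdetM - htr
  obtain ⟨v, hv0, hv⟩ := Matrix.exists_mulVec_eq_zero_iff.2 hdet
  rw [Matrix.sub_mulVec, Matrix.one_mulVec, sub_eq_zero] at hv
  exact hx v 1 hv0 (by rw [one_smul]; exact hv)

/-- An element of prime order avoiding all point stabilisers has no eigenvector. -/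
theorem no_eigen {r : ℕ} (hr : r.Prime) (hqr : q + 1 < r) (hcop : Nat.Coprime r (q ^ 2 - 1))
    (hσ : ∀ p : IsoPt hF 3, ¬ r ∣ Nat.card (stabP H p.1.rep)) {x : SU 3 F q} (hx : x ∈ H)
    (hord : orderOf x = r) : ∀ (v : Fin 3 → F) (a : F), v ≠ 0 → x • v ≠ a • v := by
  have hiso : ∀ z ∈ Subgroup.zpowers x, z ≠ 1 → ∀ (e : Fin 3 → F) (a : F),
      herm q e e = 0 → e ≠ 0 → z • e ≠ a • e := by
    intro z hz hz1 e a he he0 hze
    obtain ⟨p, k, hk, hp⟩ := exists_pt hF he0 he
    have hzH : z ∈ H := Subgroup.zpowers_le.2 hx hz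
    have hzord : orderOf z = r := by
      haveI := Fact.mk hr
      refine orderOf_eq_prime ?_ hz1
      obtain ⟨i, rfl⟩ := Subgroup.mem_zpowers_iff.1 hz
      rw [← zpow_natCast, ← _root_.zpow_mul, mul_comm, _root_.zpow_mul, zpow_natCast, ← hord,
        pow_orderOf_eq_one, _root_.one_zpow]
    have ha : a ≠ 0 := fun e0 => (smul_ne_zero_iff_ne z).2 he0 (by rw [hze, e0, zero_smul])
    have hmem : z ∈ stabP H p.1.rep := ⟨hzH, a, ha, by rw [hp, smul_comm z, hze, smul_comm]⟩
    refine hσ p ?_
    rw [← hzord]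
    exact (dvd_of_eq (Subgroup.orderOf_coe (⟨z, hmem⟩ : stabP H p.1.rep))).trans
      (orderOf_dvd_natCard _)
  have hx1 : x ≠ 1 := fun e => by
    rw [e, orderOf_one] at hord
    exact hr.one_lt.ne hord
  intro v a hv0 hxv
  have ha0 : a ≠ 0 := fun e0 => (smul_ne_zero_iff_ne x).2 hv0 (by rw [hxv, e0, zero_smul])
  have har : a ^ r = 1 := by
    have := pow_smul_eigen hxv r
    rw [← hord, pow_orderOf_eq_one, one_smul, hord] at this
    exact (smul_left_injective F hv0 (by simpa using this.symm)).trans rfl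
  have ha1 : a = 1 := by
    rw [← pow_one a, ← hcop.gcd_eq_one]
    exact pow_gcd_eq_one.2 ⟨har, by rw [← hF]; exact FiniteField.pow_card_sub_one_eq_one a ha0⟩
  subst ha1
  by_cases hvv : herm q v v = 0
  · exact hiso x (Subgroup.mem_zpowers x) hx1 v 1 hvv hv0 hxv
  obtain ⟨s, hs⟩ := exists_norm_eq hF (t := (herm q v v)⁻¹) (by rw [inv_pow, herm_self_fixed hF])
  obtain ⟨e, f, h⟩ := exists_frame_of_norm_one hF (v := s • v) (by
    rw [herm_smul_left, herm_smul_right hF, ← mul_assoc, ← pow_succ', hs, inv_mul_cancel₀ hvv])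
  have hw : ∀ i : ℕ, (x ^ i) • (s • v) = s • v := fun i => by
    rw [smul_comm, pow_smul_eigen hxv, one_pow, one_smul]
  have hperp : ∀ i : ℕ, herm q ((x ^ i) • e) (s • v) = 0 := fun i => by
    conv_lhs => arg 3; rw [← hw i]
    rw [herm_smul_SU, h.ew hF]
  have hdec : ∀ i : ℕ, (x ^ i) • e =
      herm q ((x ^ i) • e) f • e + herm q ((x ^ i) • e) e • f := fun i => by
    have := h.decomp hF ((x ^ i) • e)
    rwa [hperp i, zero_smul, add_zero] at this
  classical
  let key : Fin r → Option {t : F // t + t ^ q = 0} := fun i =>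
    if hn : herm q ((x ^ i.1) • e) e = 0 then none
    else some ⟨herm q ((x ^ i.1) • e) f / herm q ((x ^ i.1) • e) e, by
      have h0 := herm_smul_SU (x ^ i.1) e e
      rw [hdec i, h.ee] at h0
      simp [herm_add_left, herm_smul_left, herm_add_right hF, herm_smul_right hF, h.ee, h.ff,
        h.ef, h.fe hF] at h0
      have hn' := pow_ne_zero q hn
      rw [div_pow]
      field_simp
      linear_combination h0⟩
  have hdiff : ∀ (i j : Fin r), i < j → key i ≠ key j := by
    intro i j hij hk
    have hexp : ∃ c : F, (x ^ j.1) • e = c • ((x ^ i.1) • e) := by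
      simp only [key] at hk
      have di := hdec i
      have dj := hdec j
      split_ifs at hk with h1 h2
      · have hu : herm q ((x ^ i.1) • e) f ≠ 0 := fun e0 => by
          apply (smul_ne_zero_iff_ne (x ^ i.1)).2 (h.e_ne hF)
          rw [hdec i, h1, e0, zero_smul, zero_smul, add_zero]
        rw [h1] at di
        rw [h2] at dj
        generalize herm q ((x ^ i.1) • e) f = ui at di hu
        generalize herm q ((x ^ j.1) • e) f = uj at dj
        refine ⟨uj / ui, ?_⟩
        rw [di, dj, smul_add, smul_smul, div_mul_cancel₀ _ hu]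
        simp
      · rename_i h2
        have hk' := congrArg Subtype.val (Option.some_inj.1 hk)
        simp only at hk'
        clear hk
        generalize herm q ((x ^ i.1) • e) f = ui at di hk'
        generalize herm q ((x ^ j.1) • e) f = uj at dj hk'
        generalize herm q ((x ^ i.1) • e) e = ni at di hk' h1
        generalize herm q ((x ^ j.1) • e) e = nj at dj hk' h2
        refine ⟨nj / ni, ?_⟩
        rw [di, dj, smul_add, smul_smul, smul_smul, div_mul_cancel₀ _ h1]
        congr 2
        field_simp at hk' ⊢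
        linear_combination -hk'
    obtain ⟨c, hc⟩ := hexp
    have hd : (x ^ (j.1 - i.1)) • e = c • e := by
      rw [show j.1 = i.1 + (j.1 - i.1) by omega, pow_add, mul_smul, ← smul_comm (x ^ i.1) c] at hc
      exact MulAction.injective (x ^ i.1) hc
    refine hiso _ (pow_mem (Subgroup.mem_zpowers x) _) (fun e0 => ?_) e c h.ee (h.e_ne hF) hd
    have hd' := orderOf_dvd_of_pow_eq_one e0
    rw [hord] at hd'
    have := Nat.le_of_dvd (by omega) hd'
    omega
  have hinj : Function.Injective key := fun i j hk => by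
    rcases lt_trichotomy i j with hl | hl | hl
    · exact absurd hk (hdiff i j hl)
    · exact hl
    · exact absurd hk.symm (hdiff j i hl)
  have := Nat.card_le_card_of_injective key hinj
  rw [Nat.card_fin, Finite.card_option, card_trace_ker hF] at this
  omega

/-- The normaliser of a Sylow subgroup of such prime order has odd order. -/
theorem sylow_odd {r K : ℕ} [Fact r.Prime] (hK : Nat.card H = r * K) (hrK : ¬ r ∣ K)
    (hqr : q + 1 < r) (hcop : Nat.Coprime r (q ^ 2 - 1))
    (hσ : ∀ p : IsoPt hF 3, ¬ r ∣ Nat.card (stabP H p.1.rep)) :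
    ∃ (P : Sylow r H) (e : ℕ), Nat.card P = r ∧
      Nat.card (Subgroup.normalizer (P : Set H)) = r * e ∧ Odd e ∧
      (Subgroup.normalizer (P : Set H)).index * e = K ∧
      (Subgroup.normalizer (P : Set H)).index % r = 1 := by
  have hr := (Fact.out : r.Prime)
  have P : Sylow r H := default
  obtain ⟨n, hn⟩ := P.isPGroup'.exists_card_eq
  have hdvd : r ^ n ∣ r * K := by
    rw [← hn, ← hK]; exact Subgroup.card_subgroup_dvd_card (P : Subgroup H)
  have hn1 : n = 1 := by
    rcases n with _ | _ | n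
    · exfalso
      have := P.dvd_card_of_dvd_card (by rw [hK]; exact dvd_mul_right r K)
      rw [hn, pow_zero, Nat.dvd_one] at this
      exact hr.one_lt.ne' this
    · rfl
    · exfalso
      rw [pow_succ', mul_dvd_mul_iff_left hr.ne_zero, pow_succ'] at hdvd
      exact hrK ((dvd_mul_right r _).trans hdvd)
  rw [hn1, pow_one] at hn
  set N := Subgroup.normalizer (P : Set H) with hN
  obtain ⟨e, he⟩ : r ∣ Nat.card N := by
    rw [← hn]; exact Subgroup.card_dvd_of_le Subgroup.le_normalizer
  refine ⟨P, e, hn, he, ?_, ?_, ?_⟩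
  · rw [← Nat.not_even_iff_odd]
    intro heven
    have h2 : 2 ∣ Nat.card N := he ▸ (even_iff_two_dvd.1 heven).mul_left r
    obtain ⟨⟨y, hyN⟩, hy2⟩ := exists_prime_orderOf_dvd_card' 2 h2
    rw [← Subgroup.orderOf_coe] at hy2
    change orderOf y = 2 at hy2
    have hyy : y * y = 1 := by rw [← pow_two, ← hy2, pow_orderOf_eq_one]
    obtain ⟨⟨x, hxP⟩, hx1⟩ : ∃ x : (P : Subgroup H), x ≠ 1 := by
      by_contra! hall
      have h1 := Nat.card_eq_one_iff_exists.2 ⟨1, hall⟩
      rw [hn] at h1
      exact hr.one_lt.ne' h1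
    have hxord : orderOf x = r := by
      have hd : orderOf (⟨x, hxP⟩ : (P : Subgroup H)) ∣ r :=
        (orderOf_dvd_natCard _).trans (dvd_of_eq hn)
      rw [← Subgroup.orderOf_coe] at hd
      exact ((Nat.dvd_prime hr).1 hd).resolve_left fun h1 =>
        hx1 (Subtype.ext (orderOf_eq_one_iff.1 h1))
    have hxord' : orderOf x.1 = r := by rw [Subgroup.orderOf_coe, hxord]
    have hne := no_eigen hF H hr hqr hcop hσ x.2 hxord'
    have hgen : Subgroup.zpowers x = (P : Subgroup H) := Subgroup.eq_of_le_of_card_ge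
      (Subgroup.zpowers_le.2 hxP) (by rw [Nat.card_zpowers, hxord, hn])
    obtain ⟨j, hj⟩ : ∃ j : ℤ, x ^ j = y * x * y⁻¹ := Subgroup.mem_zpowers_iff.1 (by
      rw [hgen]
      exact (Subgroup.mem_normalizer_iff.1 hyN x).1 hxP)
    have hyinv : y⁻¹ = y := inv_eq_of_mul_eq_one_right hyy
    have hjj : x ^ (j * j) = x := by
      rw [_root_.zpow_mul, hj, conj_zpow, hj, hyinv]
      calc y * (y * x * y) * y = (y * y) * x * (y * y) := by group
        _ = x := by rw [hyy, one_mul, mul_one]
    have hdj : (r : ℤ) ∣ (j - 1) * (j + 1) := by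
      rw [show (j - 1) * (j + 1) = j * j - 1 by ring, ← hxord]
      refine orderOf_dvd_iff_zpow_eq_one.2 ?_
      rw [_root_.zpow_sub, hjj, _root_.zpow_one, mul_inv_cancel]
    rcases (Nat.prime_iff_prime_int.1 hr).dvd_mul.1 hdj with h1 | h1
    · have e1 : x ^ j = x := by
        rw [← hxord] at h1
        have := orderOf_dvd_iff_zpow_eq_one.1 h1
        rwa [_root_.zpow_sub, _root_.zpow_one, mul_inv_eq_one] at this
      rw [e1] at hj
      have hxy : x * y = y * x := by
        conv_lhs => rw [hj]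
        group
      have := commute_involution hF hne (congrArg Subtype.val hyy) (congrArg Subtype.val hxy)
      rw [show y = 1 from Subtype.ext this, orderOf_one] at hy2
      omega
    · have e1 : x ^ j = x⁻¹ := by
        rw [← hxord] at h1
        have := orderOf_dvd_iff_zpow_eq_one.1 h1
        rw [_root_.zpow_add, _root_.zpow_one] at this
        exact eq_inv_of_mul_eq_one_left this
      rw [e1] at hj
      exact not_inverted hF (y := y.1) hne (congrArg Subtype.val hj.symm)
  · refine Nat.eq_of_mul_eq_mul_left hr.pos ?_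
    rw [← hK, ← Subgroup.card_mul_index N, he]
    ring
  · rw [← Sylow.card_eq_index_normalizer]
    have := card_sylow_modEq_one r H
    rw [Nat.ModEq, Nat.mod_eq_of_lt hr.one_lt] at this
    exact this

/-- The case `q = 11`. -/
theorem eleven_false (hq : q = 11) (hZ : Subgroup.center (SU 3 F q) ≤ H)
    (hcard : Nat.card H = (q ^ 3 + 1) * 330)
    (hσ : ∀ p : IsoPt hF 3, Nat.card (stabP H p.1.rep) = 330) : False := by
  classical
  subst hq
  haveI : Fact (Nat.Prime 37) := ⟨by norm_num⟩
  haveI : Finite (IsoPt hF 3) :=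
    (Nat.card_pos_iff.1 (by rw [card_points hF]; norm_num)).2
  obtain ⟨P, e, hP, hN, hodd, hidx, hmod⟩ := sylow_odd hF H (r := 37) (K := 11880)
    (hcard.trans (by norm_num)) (by norm_num) (by norm_num) (by norm_num)
    (fun p => by rw [hσ p]; norm_num)
  set N := Subgroup.normalizer (P : Set H) with hNdef
  have he : e ∣ 1485 := by
    have h1 : e ∣ 8 * 1485 := ⟨N.index, by rw [mul_comm e]; norm_num [hidx]⟩
    exact (Nat.Coprime.pow_right 3 (Nat.coprime_two_right.2 hodd) : Nat.Coprime e (2 ^ 3)).dvd_of_dvd_mul_left h1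
  have key : ∀ d < 1486, d ∣ 1485 → 11880 / d % 37 = 1 → d = 3 := by decide +kernel
  have he3 : e = 3 := by
    refine key e (Nat.lt_succ_of_le (Nat.le_of_dvd (by norm_num) he)) he ?_
    rw [← hidx, Nat.mul_div_cancel _ hodd.pos]
    exact hmod
  rw [he3] at hN
  -- the normaliser centralises
  let Zc := (Subgroup.center (SU 3 F 11)).subgroupOf H
  have hZc : Nat.card Zc = 3 := by
    rw [Nat.card_congr (Subgroup.subgroupOfEquivOfLe hZ).toEquiv, card_center hF (by norm_num)]
    rfl
  set C := Subgroup.centralizer (P : Set H) with hCdef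
  have hZC : Zc ≤ C := fun z hz => Subgroup.mem_centralizer_iff.2 fun g _ =>
    Subtype.ext (Subgroup.mem_center_iff.1 (Subgroup.mem_subgroupOf.1 hz) g.1)
  haveI : IsCyclic P := isCyclic_of_prime_card hP
  have hPC : (P : Subgroup H) ≤ C := fun z hz => Subgroup.mem_centralizer_iff.2 fun g hg =>
    congrArg Subtype.val (mul_comm' (⟨g, hg⟩ : P) ⟨z, hz⟩)
  have hdC : 3 * 37 ∣ Nat.card C := by
    refine Nat.Coprime.mul_dvd_of_dvd_of_dvd (by norm_num) ?_ ?_
    · exact (dvd_of_eq hZc.symm).trans (Subgroup.card_dvd_of_le hZC)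
    · exact (dvd_of_eq hP.symm).trans (Subgroup.card_dvd_of_le hPC)
  have hCN : C ≤ N := Subgroup.centralizer_le_normalizer _
  have hNC : N ≤ C := by
    refine le_of_eq (Subgroup.eq_of_le_of_card_ge hCN ?_).symm
    have := Nat.le_of_dvd Nat.card_pos hdC
    omega
  let τ := MonoidHom.transferSylow P hNC
  have hker : Nat.card τ.ker = 11880 := by
    have h1 := (MonoidHom.ker_transferSylow_isComplement' P hNC).card_mul_card
    rw [hP, hcard] at h1
    show Nat.card (MonoidHom.transferSylow P hNC).ker = _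
    omega
  -- the elements of order eleven
  have hA : ∀ p : IsoPt hF 3, Nat.card (axisA H p.1.rep) = 11 := by
    intro p
    obtain ⟨f, w, h⟩ := exists_frame hF p.2 p.1.rep_nonzero
    haveI : Fact (Nat.Prime 11) := ⟨by norm_num⟩
    obtain ⟨p', k', hp', -, hc', hq'⟩ := exists_prime_pow hF
    obtain rfl : p' = 11 := by
      have : p' ∣ 11 := by
        rw [hq']; exact dvd_pow_self p' (by rintro rfl; simp at hq')
      exact ((Nat.dvd_prime (by norm_num)).1 this).resolve_left hp'.one_lt.ne'
    haveI := hc'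
    obtain ⟨kz, hkz⟩ := pow_char_addSubgroup hF 11 (zset hF H h)
    obtain ⟨kb, hkb⟩ := pow_char_addSubgroup hF 11 (bset hF H h)
    have h1 := card_stabP hF H h
    rw [hσ p, card_axisA hF H h, hkz, hkb, ← pow_add] at h1
    rw [card_axisA hF H h, hkz, hkb, ← pow_add]
    have hc := card_cset_dvd hF H h
    rcases hj : kz + kb with _ | _ | j
    · rw [hj, pow_zero, one_mul] at h1
      rw [← h1] at hc
      norm_num at hc
    · rfl
    · exfalso
      have h121 : 121 ∣ 330 := ⟨11 ^ j * Nat.card (cset hF H h), by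
        rw [h1, hj, pow_succ, pow_succ]; ring⟩
      norm_num at h121
  have hmem : ∀ (p : IsoPt hF 3) (u : axisA H p.1.rep), (⟨u.1, u.2.1⟩ : H) ∈ τ.ker := by
    intro p u
    have hu : (⟨u.1, u.2.1⟩ : H) ^ 11 = 1 := by
      have h1 : u ^ Nat.card (axisA H p.1.rep) = 1 := pow_card_eq_one'
      rw [hA p] at h1
      exact Subtype.ext (congrArg Subtype.val h1 : _)
    rw [MonoidHom.mem_ker, ← orderOf_eq_one_iff]
    refine Nat.dvd_one.1 ?_
    rw [← show Nat.gcd 11 37 = 1 by norm_num]
    refine Nat.dvd_gcd (orderOf_dvd_of_pow_eq_one (by rw [← map_pow, hu, map_one])) ?_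
    exact (orderOf_dvd_natCard _).trans (dvd_of_eq hP)
  letI : Fintype (IsoPt hF 3) := Fintype.ofFinite _
  have hinj : Function.Injective
      (fun s : Σ p : IsoPt hF 3, {u : axisA H p.1.rep // u ≠ 1} =>
        (⟨_, hmem s.1 s.2.1⟩ : τ.ker)) := by
    rintro ⟨p, ⟨u, hu⟩, hu1⟩ ⟨p', ⟨u', hu'⟩, hu1'⟩ hh
    obtain rfl : u = u' := congrArg (fun z : τ.ker => z.1.1) hh
    obtain rfl : p = p' := by
      obtain ⟨f, w, h⟩ := exists_frame hF p.2 p.1.rep_nonzero
      obtain ⟨k, hk⟩ := unip_fix hF h hu.2 (fun e0 => hu1 (Subtype.ext e0)) p'.2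
        (a := 1) (by rw [hu'.2, one_smul])
      by_contra hne
      exact ne_smul_of_ne hF (Ne.symm hne) k hk
    rfl
  have hle := Nat.card_le_card_of_injective _ hinj
  have h10 : ∀ p : IsoPt hF 3, Nat.card {u : axisA H p.1.rep // u ≠ 1} = 10 := fun p => by
    have h1 := Finite.card_option (α := {u : axisA H p.1.rep // u ≠ 1})
    rw [Nat.card_congr (Equiv.optionSubtypeNe (1 : axisA H p.1.rep)), hA p] at h1
    omega
  rw [Nat.card_sigma, Finset.sum_congr rfl (fun p _ => h10 p), Finset.sum_const, Finset.card_univ,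
    ← Nat.card_eq_fintype_card, card_points hF, hker] at hle
  norm_num at hle

/-- No proper subgroup containing the centre has index at most `q³`. -/
theorem index_gt (hq : 3 ≤ q) (h5 : q ≠ 5) (hZ : Subgroup.center (SU 3 F q) ≤ H) (hne : H ≠ ⊤) :
    q ^ 3 < H.index := by
  by_contra hi
  rw [not_lt] at hi
  obtain ⟨p₀⟩ : Nonempty (IsoPt hF 3) :=
    (Nat.card_pos_iff.1 (by rw [card_points hF]; positivity)).1
  obtain ⟨hcases, hcard⟩ := stabiliser_cases hF H hq h5 hi hne p₀
  have hσ : ∀ p : IsoPt hF 3, Nat.card (stabP H p.1.rep) = Nat.card (stabP H p₀.1.rep) := by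
    intro p
    have := (stabiliser_cases hF H hq h5 hi hne p).2
    rw [hcard] at this
    exact (Nat.eq_of_mul_eq_mul_left (by positivity) this).symm
  rcases hcases with ⟨rfl, hs⟩ | ⟨rfl, hs⟩ | ⟨rfl, hs⟩ | ⟨rfl, hs⟩
  · haveI : Fact (Nat.Prime 7) := ⟨by norm_num⟩
    obtain ⟨P, e, -, -, hodd, hidx, hmod⟩ := sylow_odd hF H (r := 7) (K := 32)
      (hcard.trans (by rw [hs]; norm_num)) (by norm_num) (by norm_num) (by norm_num)
      (fun p => by rw [hσ p, hs]; norm_num)
    have he : e ∣ 2 ^ 5 := ⟨_, by rw [mul_comm e, hidx]; norm_num⟩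
    have he1 : e = 1 :=
      Nat.Coprime.eq_one_of_dvd (Nat.Coprime.pow_right 5 (Nat.coprime_two_right.2 hodd)) he
    rw [he1, mul_one] at hidx
    omega
  · haveI : Fact (Nat.Prime 19) := ⟨by norm_num⟩
    obtain ⟨P, e, -, -, hodd, hidx, hmod⟩ := sylow_odd hF H (r := 19) (K := 1944)
      (hcard.trans (by rw [hs]; norm_num)) (by norm_num) (by norm_num) (by norm_num)
      (fun p => by rw [hσ p, hs]; norm_num)
    have h1 : e ∣ 8 * 243 := ⟨_, by rw [mul_comm e, hidx]⟩
    have he := (Nat.Coprime.pow_right 3 (Nat.coprime_two_right.2 hodd) :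
      Nat.Coprime e (2 ^ 3)).dvd_of_dvd_mul_left h1
    have key : ∀ d < 244, d ∣ 243 → 1944 / d % 19 ≠ 1 := by decide +kernel
    refine key e (Nat.lt_succ_of_le (Nat.le_of_dvd (by norm_num) he)) he ?_
    rw [← hidx, Nat.mul_div_cancel _ hodd.pos]
    exact hmod
  · haveI : Fact (Nat.Prime 73) := ⟨by norm_num⟩
    obtain ⟨P, e, -, -, hodd, hidx, hmod⟩ := sylow_odd hF H (r := 73) (K := 1080)
      (hcard.trans (by rw [hs]; norm_num)) (by norm_num) (by norm_num) (by norm_num)
      (fun p => by rw [hσ p, hs]; norm_num)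
    have h1 : e ∣ 8 * 135 := ⟨_, by rw [mul_comm e, hidx]⟩
    have he := (Nat.Coprime.pow_right 3 (Nat.coprime_two_right.2 hodd) :
      Nat.Coprime e (2 ^ 3)).dvd_of_dvd_mul_left h1
    have key : ∀ d < 136, d ∣ 135 → 1080 / d % 73 ≠ 1 := by decide +kernel
    refine key e (Nat.lt_succ_of_le (Nat.le_of_dvd (by norm_num) he)) he ?_
    rw [← hidx, Nat.mul_div_cancel _ hodd.pos]
    exact hmod
  · exact eleven_false hF H rfl hZ (by rw [hcard, hs]) (fun p => (hσ p).trans hs)

end Cfsg.Agent.MinIndexU3
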