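import Cfsg.Agent.MinIndexU3.Torus
import Mathlib.GroupTheory.GroupAction.Quotient
import Mathlib.GroupTheory.GroupAction.SubMulAction
import Mathlib.FieldTheory.IsAlgClosed.AlgebraicClosure

/-!
The centraliser of a semisimple element acting on the lines of a unitary plane (helper10).
-/

set_option autoImplicit false

namespace Cfsg.Agent.MinIndexU3

open Matrix Cfsg.Agent.Unitary
open scoped LinearAlgebra.Projectivization

variable {F : Type*} [Field F] [Fintype F] {q : ℕ} (hF : Fintype.card F = q ^ 2)

include hF in
/-- A quadratic arising from a unitary map of a plane has a root in the field. -/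
theorem quad_root {β k : F} (hβ : β + β ^ q = 0) (hk : k ^ q = k) :
    ∃ r : F, r ^ 2 + β * r - k = 0 := by
  classical
  obtain ⟨p, j, hp, -, hc, hq⟩ := exists_prime_pow hF
  haveI := hc
  haveI := Fact.mk hp
  let K := AlgebraicClosure F
  let i : F →+* K := algebraMap F K
  haveI : CharP K p := charP_of_injective_ringHom i.injective p
  let P : Polynomial K := Polynomial.X ^ 2 + (Polynomial.C (i β) * Polynomial.X - Polynomial.C (i k))
  have hlt : (Polynomial.C (i β) * Polynomial.X - Polynomial.C (i k)).degree < ((2 : ℕ) : WithBot ℕ) :=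
    ((Polynomial.degree_sub_le _ _).trans (max_le (Polynomial.degree_C_mul_X_le _)
      (Polynomial.degree_C_le.trans (by norm_num)))).trans_lt (by norm_num)
  have hdeg : P.degree ≠ 0 := by
    have : P.degree = 2 := by
      rw [Polynomial.degree_add_eq_left_of_degree_lt] <;> rw [Polynomial.degree_X_pow]
      · rfl
      · exact hlt
    rw [this]; decide
  obtain ⟨r, hr⟩ := IsAlgClosed.exists_root P hdeg
  have hr' : r ^ 2 + i β * r - i k = 0 := by
    simp [P, Polynomial.IsRoot] at hr; linear_combination hr
  -- the conjugate root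
  have hadd : ∀ x y : K, (x + y) ^ q = x ^ q + y ^ q := fun x y => by
    rw [hq]; exact add_pow_char_pow x y p j
  have hneg : ∀ x : K, (-x) ^ q = -(x ^ q) := fun x => by
    have := hadd (-x) x
    rw [neg_add_cancel, zero_pow (q_pos hF).ne'] at this
    linear_combination -this
  have hβ' : i β ^ q = -i β := by
    rw [← map_pow, eq_neg_of_add_eq_zero_right hβ, map_neg]
  have hk' : i k ^ q = i k := by rw [← map_pow, hk]
  have hconj : (r ^ q) ^ 2 - i β * r ^ q - i k = 0 := by
    have h1 := congrArg (· ^ q) hr'
    simp only [sub_eq_add_neg, hadd, hneg, zero_pow (q_pos hF).ne', mul_pow, hβ', hk'] at h1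
    rw [← pow_mul, mul_comm, pow_mul]
    linear_combination h1
  have hmul : (r ^ q + r) * (r ^ q - r - i β) = 0 := by linear_combination hconj - hr'
  have hqq : r ^ (q ^ 2) = r := by
    rw [sq, pow_mul]
    rcases mul_eq_zero.1 hmul with e | e
    · rw [eq_neg_of_add_eq_zero_left e, hneg, eq_neg_of_add_eq_zero_left e, neg_neg]
    · have e' : r ^ q = r + i β := by linear_combination e
      rw [e', hadd, hβ', e']; ring
  -- the roots of `X ^ q² - X` all lie in `F`
  let Q : Polynomial K := Polynomial.X ^ (q ^ 2) - Polynomial.X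
  have hq2 : 1 < q ^ 2 := hF ▸ Fintype.one_lt_card
  have hQd : Q.natDegree = q ^ 2 := FiniteField.X_pow_card_sub_X_natDegree_eq K hq2
  have hQ0 : Q ≠ 0 := fun e => by rw [e, Polynomial.natDegree_zero] at hQd; omega
  by_contra! hno
  have hr_not : r ∉ Finset.univ.image i := by
    simp only [Finset.mem_image, Finset.mem_univ, true_and, not_exists]
    intro s hs
    refine hno s (i.injective ?_)
    rw [map_zero, ← hr', ← hs]
    simp
  have hsub : (insert r (Finset.univ.image i)).val ⊆ Q.roots := by
    intro x hx
    rw [Polynomial.mem_roots hQ0, Polynomial.IsRoot]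
    simp only [Finset.mem_val, Finset.mem_insert, Finset.mem_image, Finset.mem_univ, true_and] at hx
    rcases hx with rfl | ⟨s, rfl⟩
    · simp [Q, hqq]
    · simp [Q, ← map_pow, ← hF, FiniteField.pow_card]
  have := Polynomial.card_le_degree_of_subset_roots hsub
  rw [Finset.card_insert_of_notMem hr_not, Finset.card_image_of_injective _ i.injective,
    Finset.card_univ, hF, hQd] at this
  omega

variable (H : Subgroup (SU 3 F q)) {e f w : Fin 3 → F} (h : Frame3 q e f w)

/-- The plane's lines, as a set with an action of the stabiliser of `w`. -/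
def lineSet (hF : Fintype.card F = q ^ 2) (H : Subgroup (SU 3 F q)) (w : Fin 3 → F) :
    SubMulAction (stabP H w) (ℙ F (Fin 3 → F)) where
  carrier := {p | herm q p.rep w = 0}
  smul_mem' := by
    rintro ⟨g, -, κ, hκ, hgw⟩ p hp
    have hne : g • p.rep ≠ 0 := (smul_ne_zero_iff_ne g).2 p.rep_nonzero
    obtain ⟨a, ha⟩ := (Projectivization.mk_eq_mk_iff' F _ _ (g • p).rep_nonzero hne).1
      (by rw [Projectivization.mk_rep, ← smul_mk_SU g p.rep_nonzero, Projectivization.mk_rep])
    show herm q (g • p).rep w = 0
    rw [← ha, herm_smul_left]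
    have := herm_smul_SU g p.rep w
    rw [hgw, herm_smul_right hF, show herm q p.rep w = 0 from hp] at this
    rw [(mul_eq_zero.1 this).resolve_left (pow_ne_zero _ hκ), mul_zero]

include hF h

theorem plane_ne_zero (s : F) : s • e + f ≠ 0 := fun e' => by
  have := congrArg (fun x => herm q x e) e'
  simp [herm_add_left, herm_smul_left, h.ee, h.fe hF] at this

/-- The line with a given coordinate. -/
noncomputable def lineOf (hF : Fintype.card F = q ^ 2) (H : Subgroup (SU 3 F q))
    (h : Frame3 q e f w) : Option F → lineSet hF H w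
  | none => ⟨Projectivization.mk F e (h.e_ne hF), by
      obtain ⟨a, ha⟩ := (Projectivization.mk_eq_mk_iff' F _ _
        (Projectivization.mk F e (h.e_ne hF)).rep_nonzero (h.e_ne hF)).1 (Projectivization.mk_rep _)
      show herm q _ w = 0
      rw [← ha, herm_smul_left, h.ew hF, mul_zero]⟩
  | some s => ⟨Projectivization.mk F (s • e + f) (plane_ne_zero hF h s), by
      obtain ⟨a, ha⟩ := (Projectivization.mk_eq_mk_iff' F _ _
        (Projectivization.mk F (s • e + f) (plane_ne_zero hF h s)).rep_nonzero
        (plane_ne_zero hF h s)).1 (Projectivization.mk_rep _)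
      show herm q _ w = 0
      rw [← ha, herm_smul_left, herm_add_left, herm_smul_left, h.ew hF, h.fw hF]
      simp⟩

theorem mk_plane_eq_lineOf {u v : F} (hne : u • e + v • f ≠ 0) :
    (v = 0 → Projectivization.mk F (u • e + v • f) hne = (lineOf hF H h none).1) ∧
    (v ≠ 0 → Projectivization.mk F (u • e + v • f) hne = (lineOf hF H h (some (u / v))).1) := by
  constructor
  · rintro rfl
    exact (Projectivization.mk_eq_mk_iff' F _ _ _ _).2 ⟨u, by simp⟩
  · intro hv
    refine (Projectivization.mk_eq_mk_iff' F _ _ _ _).2 ⟨v, ?_⟩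
    rw [smul_add, smul_smul, mul_div_cancel₀ _ hv]

theorem lineOf_bijective : Function.Bijective (lineOf hF H h) := by
  constructor
  · intro o o' ho
    have ho' := congrArg Subtype.val ho
    rcases o with _ | s <;> rcases o' with _ | s'
    · rfl
    · exfalso
      obtain ⟨a, ha⟩ := (Projectivization.mk_eq_mk_iff' F _ _ _ _).1 ho'
      have h1 := congrArg (fun x => herm q x e) ha
      simp [herm_add_left, herm_smul_left, h.ee, h.fe hF] at h1
      rw [h1, zero_smul] at ha
      exact h.e_ne hF ha.symm
    · exfalso
      obtain ⟨a, ha⟩ := (Projectivization.mk_eq_mk_iff' F _ _ _ _).1 ho'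
      have h1 := congrArg (fun x => herm q x e) ha
      simp [herm_add_left, herm_smul_left, h.ee, h.fe hF] at h1
    · obtain ⟨a, ha⟩ := (Projectivization.mk_eq_mk_iff' F _ _ _ _).1 ho'
      have h1 := congrArg (fun x => herm q x e) ha
      have h2 := congrArg (fun x => herm q x f) ha
      simp [herm_add_left, herm_smul_left, h.ee, h.fe hF, h.ef, h.ff] at h1 h2
      subst h1
      rw [one_mul] at h2
      rw [h2]
  · rintro ⟨p, hp⟩
    have hd := h.decomp hF p.rep
    rw [show herm q p.rep w = 0 from hp, zero_smul, add_zero] at hd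
    have hmk : Projectivization.mk F _ (hd ▸ p.rep_nonzero) = p := by
      refine (Eq.trans ?_ p.mk_rep)
      exact (Projectivization.mk_eq_mk_iff' F _ _ _ _).2 ⟨1, by rw [one_smul]; exact hd⟩
    by_cases hv : herm q p.rep e = 0
    · exact ⟨none, Subtype.ext (((mk_plane_eq_lineOf hF H h _).1 hv).symm.trans hmk)⟩
    · exact ⟨some _, Subtype.ext (((mk_plane_eq_lineOf hF H h _).2 hv).symm.trans hmk)⟩

theorem card_lineSet : Nat.card (lineSet hF H w) = q ^ 2 + 1 := by
  rw [← Nat.card_eq_of_bijective _ (lineOf_bijective hF H h), Nat.card_eq_fintype_card,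
    Fintype.card_option, hF]

/-- The coordinates of an element stabilising the line of `w`. -/
theorem plane_coords (g : stabP H w) :
    g.1 • e = herm q (g.1 • e) f • e + herm q (g.1 • e) e • f ∧
    g.1 • f = herm q (g.1 • f) f • e + herm q (g.1 • f) e • f := by
  obtain ⟨-, κ, hκ, hgw⟩ := g.2
  have key : ∀ x : Fin 3 → F, herm q x w = 0 →
      g.1 • x = herm q (g.1 • x) f • e + herm q (g.1 • x) e • f := fun x hx => by
    have := herm_smul_SU g.1 x w
    rw [hgw, herm_smul_right hF, hx] at this
    have hd := h.decomp hF (g.1 • x)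
    rwa [(mul_eq_zero.1 this).resolve_left (pow_ne_zero _ hκ), zero_smul, add_zero] at hd
  exact ⟨key e (h.ew hF), key f (h.fw hF)⟩

theorem fix_none (g : stabP H w) {u1 u3 : F} (h1 : g.1 • e = u1 • e + u3 • f) :
    g • lineOf hF H h none = lineOf hF H h none ↔ u3 = 0 := by
  have hne : u1 • e + u3 • f ≠ 0 := by
    rw [← h1]; exact (smul_ne_zero_iff_ne g.1).2 (h.e_ne hF)
  have key : (g • lineOf hF H h none).1 = Projectivization.mk F (u1 • e + u3 • f) hne := by
    show g.1 • Projectivization.mk F e _ = _
    rw [smul_mk_SU]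
    exact (Projectivization.mk_eq_mk_iff' F _ _ _ _).2 ⟨1, by rw [one_smul, h1]⟩
  rw [← Subtype.coe_inj, key]
  constructor
  · intro hh
    by_contra hu
    exact Option.some_ne_none _ ((lineOf_bijective hF H h).1
      (Subtype.ext (((mk_plane_eq_lineOf hF H h hne).2 hu).symm.trans hh)))
  · exact (mk_plane_eq_lineOf hF H h hne).1

theorem fix_some (g : stabP H w) {u1 u2 u3 u4 : F} (h1 : g.1 • e = u1 • e + u3 • f)
    (h2 : g.1 • f = u2 • e + u4 • f) (s : F) :
    g • lineOf hF H h (some s) = lineOf hF H h (some s) ↔
      u1 * s + u2 = s * (u3 * s + u4) := by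
  have hg : g.1 • (s • e + f) = (u1 * s + u2) • e + (u3 * s + u4) • f := by
    rw [smul_add, smul_comm g.1, h1, h2]; match_scalars <;> ring
  have hne : (u1 * s + u2) • e + (u3 * s + u4) • f ≠ 0 := by
    rw [← hg]; exact (smul_ne_zero_iff_ne g.1).2 (plane_ne_zero hF h s)
  have key : (g • lineOf hF H h (some s)).1 = Projectivization.mk F _ hne := by
    show g.1 • Projectivization.mk F (s • e + f) _ = _
    rw [smul_mk_SU]
    exact (Projectivization.mk_eq_mk_iff' F _ _ _ _).2 ⟨1, by rw [one_smul, hg]⟩
  rw [← Subtype.coe_inj, key]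
  constructor
  · intro hh
    by_cases hv : u3 * s + u4 = 0
    · exact absurd ((lineOf_bijective hF H h).1
        (Subtype.ext (((mk_plane_eq_lineOf hF H h hne).1 hv).symm.trans hh))) (by simp)
    · have := (lineOf_bijective hF H h).1
        (Subtype.ext (((mk_plane_eq_lineOf hF H h hne).2 hv).symm.trans hh))
      rw [Option.some_inj, div_eq_iff hv] at this
      exact this
  · intro hs
    have hv : u3 * s + u4 ≠ 0 := fun e0 => hne (by rw [hs, e0]; simp)
    rw [(mk_plane_eq_lineOf hF H h hne).2 hv, hs, mul_div_cancel_right₀ _ hv]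

/-- An element stabilising the line of `w` fixes all lines of the plane, two of them,
or one isotropic one. -/
theorem fix_cases (g : stabP H w) :
    (∀ p : lineSet hF H w, g • p = p) ∨
      Nat.card (MulAction.fixedBy (lineSet hF H w) g) = 2 ∨
      ∃ o : Option F, MulAction.fixedBy (lineSet hF H w) g = {lineOf hF H h o} ∧
        (o = none ∨ ∃ s, o = some s ∧ s + s ^ q = 0) := by
  classical
  obtain ⟨h1, h2⟩ := plane_coords hF H h g
  set u1 := herm q (g.1 • e) f
  set u3 := herm q (g.1 • e) e
  set u2 := herm q (g.1 • f) f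
  set u4 := herm q (g.1 • f) e
  have hsurj := (lineOf_bijective hF H h).2
  have hinj := (lineOf_bijective hF H h).1
  have pair : ∀ a b : Option F, a ≠ b →
      (∀ o, g • lineOf hF H h o = lineOf hF H h o ↔ (o = a ∨ o = b)) →
      Nat.card (MulAction.fixedBy (lineSet hF H w) g) = 2 := by
    intro a b hab hfix
    have : MulAction.fixedBy (lineSet hF H w) g = {lineOf hF H h a, lineOf hF H h b} := by
      ext p
      obtain ⟨o, rfl⟩ := hsurj p
      simp only [MulAction.mem_fixedBy, hfix, Set.mem_insert_iff, Set.mem_singleton_iff, hinj.eq_iff]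
    rw [this, Nat.card_coe_set_eq, Set.ncard_pair (hinj.ne hab)]
  have single : ∀ a : Option F,
      (∀ o, g • lineOf hF H h o = lineOf hF H h o ↔ o = a) →
      MulAction.fixedBy (lineSet hF H w) g = {lineOf hF H h a} := by
    intro a hfix
    ext p
    obtain ⟨o, rfl⟩ := hsurj p
    simp only [MulAction.mem_fixedBy, hfix, Set.mem_singleton_iff, hinj.eq_iff]
  by_cases hu3 : u3 = 0
  · by_cases h14 : u1 = u4
    · by_cases hu2 : u2 = 0
      · refine Or.inl fun p => ?_
        obtain ⟨_ | s, rfl⟩ := hsurj p
        · exact (fix_none hF H h g h1).2 hu3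
        · exact (fix_some hF H h g h1 h2 s).2 (by rw [hu3, hu2, h14]; ring)
      · refine Or.inr (Or.inr ⟨none, single _ ?_, Or.inl rfl⟩)
        rintro (_ | s)
        · simp [(fix_none hF H h g h1).2 hu3]
        · simp only [fix_some hF H h g h1 h2, reduceCtorEq, iff_false]
          intro hs
          exact hu2 (by rw [hu3, h14] at hs; linear_combination hs)
    · refine Or.inr (Or.inl (pair none (some (u2 / (u4 - u1))) (by simp) ?_))
      have hd : u4 - u1 ≠ 0 := sub_ne_zero.2 fun e' => h14 e'.symm
      rintro (_ | s)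
      · simp [(fix_none hF H h g h1).2 hu3]
      · simp only [fix_some hF H h g h1 h2, hu3, reduceCtorEq, false_or, Option.some_inj,
          eq_div_iff hd]
        constructor <;> intro hs <;> linear_combination -hs
  · right
    have hee : u1 * u3 ^ q + u3 * u1 ^ q = 0 := by
      have := herm_smul_SU g.1 e e
      rw [h1, h.ee] at this
      simp [herm_add_left, herm_smul_left, herm_add_right hF, herm_smul_right hF, h.ee, h.ff,
        h.ef, h.fe hF] at this
      linear_combination this
    have hef : u1 * u4 ^ q + u3 * u2 ^ q = 1 := by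
      have := herm_smul_SU g.1 e f
      rw [h1, h2, h.ef] at this
      simp [herm_add_left, herm_smul_left, herm_add_right hF, herm_smul_right hF, h.ee, h.ff,
        h.ef, h.fe hF] at this
      linear_combination this
    have hff : u2 * u4 ^ q + u4 * u2 ^ q = 0 := by
      have := herm_smul_SU g.1 f f
      rw [h2, h.ff] at this
      simp [herm_add_left, herm_smul_left, herm_add_right hF, herm_smul_right hF, h.ee, h.ff,
        h.ef, h.fe hF] at this
      linear_combination this
    have hef' : u4 * u1 ^ q + u2 * u3 ^ q = 1 := by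
      have := congrArg (· ^ q) hef
      simp only [one_pow, add_pow_q hF, mul_pow, pow_q_pow_q hF] at this
      linear_combination this
    have hu3q : u3 ^ q ≠ 0 := pow_ne_zero _ hu3
    have hu44 : u3 * u4 ^ q + u4 * u3 ^ q = 0 := by
      linear_combination -(u3 ^ q * u4) * hef + (u3 * u3 ^ q) * hff - (u3 * u4 ^ q) * hef' +
        (u4 * u4 ^ q) * hee
    set β' := (u4 - u1) / u3 with hβ'
    set k := u2 / u3 with hk'
    have hβ : β' + β' ^ q = 0 := by
      rw [hβ', div_pow, sub_pow_q hF]; field_simp; linear_combination hu44 - hee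
    have hX : u3 * (u1 * u4 ^ q - u4 * u1 ^ q) = 0 := by linear_combination u1 * hu44 - u4 * hee
    have hk : k ^ q = k := by
      rw [hk', div_pow]; field_simp
      linear_combination hef - hef' - (mul_eq_zero.1 hX).resolve_left hu3
    obtain ⟨r, hr⟩ := quad_root hF hβ hk
    have hroots : ∀ s, s ^ 2 + β' * s - k = 0 ↔ (s = r ∨ s = -β' - r) := fun s => by
      constructor
      · intro hs
        have : (s - r) * (s + r + β') = 0 := by linear_combination hs - hr
        rcases mul_eq_zero.1 this with e' | e'
        · exact Or.inl (sub_eq_zero.1 e')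
        · exact Or.inr (by linear_combination e')
      · rintro (rfl | rfl)
        · exact hr
        · linear_combination hr
    have hfix : ∀ o, g • lineOf hF H h o = lineOf hF H h o ↔
        (o = some r ∨ o = some (-β' - r)) := by
      rintro (_ | s)
      · simp [fix_none hF H h g h1, hu3]
      · rw [fix_some hF H h g h1 h2, Option.some_inj, Option.some_inj, ← hroots, hβ', hk']
        constructor <;> intro hs
        · field_simp; linear_combination -hs
        · field_simp at hs; linear_combination -hs
    by_cases hd : r = -β' - r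
    · refine Or.inr ⟨some r, single _ fun o => by rw [hfix o, ← hd, or_self], Or.inr ⟨r, rfl, ?_⟩⟩
      have hconj : (-(r ^ q)) ^ 2 + β' * (-(r ^ q)) - k = 0 := by
        have h1 := congrArg (· ^ q) hr
        simp only [sq, sub_eq_add_neg, add_pow_q hF, neg_pow_q hF, zero_pow_q hF, mul_pow, hk,
          eq_neg_of_add_eq_zero_right hβ] at h1
        linear_combination h1
      rcases (hroots _).1 hconj with e' | e'
      · linear_combination -e'
      · rw [← hd] at e'; linear_combination -e'
    · exact Or.inl (pair _ _ (fun e' => hd (Option.some_inj.1 e')) hfix)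

end Cfsg.Agent.MinIndexU3
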