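import Cfsg.Agent.MinIndexU3.Line
import Cfsg.Agent.MinIndexU3.Burnside

/-!
The orbit equation for the centraliser of a semisimple element on the lines of a plane (helper10).
-/

set_option autoImplicit false

namespace Cfsg.Agent.MinIndexU3

open Matrix Cfsg.Agent.Unitary MulAction
open scoped LinearAlgebra.Projectivization

variable {F : Type*} [Field F] [Fintype F] {q : ℕ} (hF : Fintype.card F = q ^ 2)
variable (H : Subgroup (SU 3 F q)) {e f w : Fin 3 → F} (h : Frame3 q e f w)

include hF h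

theorem coords_in_line {g : SU 3 F q} {a κ : F} (hge : g • e = a • e) (hgw : g • w = κ • w) :
    ∃ b : F, g • f = b • e + (a ^ q)⁻¹ • f ∧ g • w = a ^ (q - 1) • w := by
  obtain ⟨b, z, ha, g1, g2, -⟩ := h.exists_coords hF hge
  have h0 := congrArg (fun x => herm q x f) (g2.symm.trans hgw)
  simp [herm_add_left, herm_smul_left, herm_neg_left, h.ef, h.wf] at h0
  have hz : z = 0 := by
    rcases h0 with e' | e'
    · exact absurd e'.1 ha
    · exact e'.1
  subst hz
  exact ⟨b, by simpa using g1, by simpa [zero_pow_q hF] using g2⟩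

set_option maxHeartbeats 1600000 in
/-- The orbit equation on the lines of the plane. -/
theorem orbit_equation
    (htr : ∀ e' : Fin 3 → F, herm q e' e' = 0 → e' ≠ 0 → ∃ g ∈ H, ∃ k : F, k ≠ 0 ∧ g • e = k • e')
    {t : SU 3 F q} (ht : t ∈ H) {α β : F} (hte : t • e = α • e) (htf : t • f = α • f)
    (htw : t • w = β • w) (hα : α ^ (q + 1) = 1) (hβne : β ≠ α) (hβ2 : β * α ^ 2 = 1) :
    ∃ T : Multiset ℕ,
      (∀ n ∈ T, n ∣ (q + 1) * Nat.card (bset hF H h) *
        Nat.card ((powMonoidHom (q + 1) : cset hF H h →* cset hF H h).range)) ∧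
      (T.map fun n => (q + 1) * Nat.card (bset hF H h) *
        Nat.card ((powMonoidHom (q + 1) : cset hF H h →* cset hF H h).range) - n).sum +
          (q + 1) * Nat.card (bset hF H h) =
        (q + 1) * Nat.card (bset hF H h) *
          Nat.card ((powMonoidHom (q + 1) : cset hF H h →* cset hF H h).range) + 2 * q := by
  classical
  haveI : Finite (SU 3 F q) := inferInstance
  haveI : Finite (ℙ F (Fin 3 → F)) := inferInstance
  let L := lineSet hF H w
  letI : Fintype L := Fintype.ofFinite L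
  letI : Fintype (stabP H w) := Fintype.ofFinite _
  set b := Nat.card (bset hF H h)
  set c := Nat.card (cset hF H h) with hc
  set s := c.gcd (q + 1) with hs
  set m := Nat.card ((powMonoidHom (q + 1) : cset hF H h →* cset hF H h).range)
  set N := (q + 1) * b * m with hN
  have hms : m * s = c := card_pow_range (cset hF H h) (q + 1)
  have hspos : 0 < s := Nat.gcd_pos_of_pos_right _ (Nat.succ_pos q)
  -- the stabiliser of the line of `e`
  let Xe : Subgroup (stabP H w) := (stabP H e).subgroupOf (stabP H w)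
  let φ : Xe →* stabP H e :=
    { toFun := fun g => ⟨g.1.1, g.2⟩
      map_one' := rfl
      map_mul' := fun _ _ => rfl }
  let ψ : Xe →* cset hF H h := (chi hF H h).rangeRestrict.comp φ
  have hψv : ∀ g : Xe, g.1.1 • e = (((ψ g : cset hF H h) : Fˣ) : F) • e := fun g =>
    smul_eq_chi hF H h (φ g)
  have hψeq : ∀ (g : Xe) {a : F}, g.1.1 • e = a • e → (((ψ g : cset hF H h) : Fˣ) : F) = a :=
    fun g a hga => smul_left_injective F (h.e_ne hF) ((hψv g).symm.trans hga)
  have hiso : ∀ o : Option F, (o = none ∨ ∃ s, o = some s ∧ s + s ^ q = 0) →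
      ∃ x : stabP H w, x • lineOf hF H h none = lineOf hF H h o := by
    rintro o (rfl | ⟨r, rfl, hr⟩)
    · exact ⟨1, one_smul _ _⟩
    have h' : Frame3 q (r • e + f) e w := by
      constructor
      · simp [herm_add_left, herm_add_right hF, herm_smul_left, herm_smul_right hF, h.ee, h.ff,
          h.ef, h.fe hF]
        linear_combination hr
      · exact h.ee
      · simp [herm_add_left, herm_smul_left, h.ee, h.fe hF]
      · exact h.ww
      · simp [herm_add_right hF, herm_smul_right hF, h.we, h.wf]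
      · exact h.we
    obtain ⟨g, hg, k, hk, hge⟩ := htr (r • e + f) h'.ee (plane_ne_zero hF h r)
    have hte' : t • (r • e + f) = α • (r • e + f) := by
      rw [smul_add, smul_comm t, hte, htf]; match_scalars <;> ring
    obtain ⟨x, hx, hxe, κ, hκ, hxw⟩ :=
      exists_mem_line hF H h' (h.ew hF) ht hte hte' htw hα hβne hβ2 hg hk hge
    refine ⟨⟨x, hx, κ, hκ, hxw⟩, Subtype.ext ?_⟩
    show x • Projectivization.mk F e _ = Projectivization.mk F (r • e + f) _
    rw [smul_mk_SU]
    exact (Projectivization.mk_eq_mk_iff' F _ _ _ _).2 ⟨k, hxe.symm⟩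
  have hψsurj : Function.Surjective ψ := by
    rintro ⟨a, ha⟩
    obtain ⟨g, hg, hga⟩ := mem_cset hF H h ha
    obtain ⟨x, hx, hxe, κ, hκ, hxw⟩ :=
      exists_mem_line hF H h (h.ew hF) ht hte hte htw hα hβne hβ2 hg a.ne_zero hga
    exact ⟨⟨⟨x, hx, κ, hκ, hxw⟩, hx, (a : F), a.ne_zero, hxe⟩,
      Subtype.ext (Units.ext (hψeq _ hxe))⟩
  have hkerψ : Nat.card ψ.ker = b := by
    have hco : ∀ g : ψ.ker, g.1.1.1 • e = e := fun g => by
      rw [hψv, MonoidHom.mem_ker.1 g.2]
      simp
    refine Nat.card_eq_of_bijective (fun g => (⟨herm q (g.1.1.1 • f) f, ?_⟩ : bset hF H h)) ⟨?_, ?_⟩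
    · obtain ⟨-, κ, -, hκ⟩ := g.1.1.2
      obtain ⟨b', g1, -⟩ := coords_in_line hF h (g := g.1.1.1) (a := 1) (by rw [hco g, one_smul]) hκ
      rw [one_pow, inv_one, one_smul] at g1
      refine ⟨g.1.1.1, g.1.1.2.1, hco g, ?_⟩
      rw [g1]; simp [herm_add_left, herm_smul_left, h.ef, h.ff]
    · intro g g' hgg
      have hb := congrArg (fun z : bset hF H h => z.1) hgg
      simp only at hb
      obtain ⟨-, κ, -, hκ⟩ := g.1.1.2
      obtain ⟨-, κ', -, hκ'⟩ := g'.1.1.2
      obtain ⟨b1, g1, g2⟩ := coords_in_line hF h (g := g.1.1.1) (a := 1) (by rw [hco g, one_smul]) hκ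
      obtain ⟨b2, g1', g2'⟩ :=
        coords_in_line hF h (g := g'.1.1.1) (a := 1) (by rw [hco g', one_smul]) hκ'
      rw [one_pow, inv_one, one_smul] at g1 g1'
      simp [g1, g1', herm_add_left, herm_smul_left, h.ef, h.ff] at hb
      exact Subtype.ext (Subtype.ext (Subtype.ext
        (h.ext hF (by rw [hco g, hco g']) (by rw [g1, g1', hb]) (g2.trans g2'.symm))))
    · rintro ⟨b', g, hg, hge, hgf⟩
      have hgw := smul_w_of_transvection hF h hge hgf
      let g' : Xe := ⟨⟨g, hg, 1, one_ne_zero, (show g • w = (1 : F) • w by rw [hgw, one_smul])⟩,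
        hg, 1, one_ne_zero, (show g • e = (1 : F) • e by rw [hge, one_smul])⟩
      refine ⟨⟨g', MonoidHom.mem_ker.2 (Subtype.ext (Units.ext ?_))⟩, Subtype.ext ?_⟩
      · show (((ψ g' : cset hF H h) : Fˣ) : F) = 1
        exact hψeq g' (show g • e = (1 : F) • e by rw [hge, one_smul])
      · show herm q (g • f) f = b'
        simp [hgf, herm_add_left, herm_smul_left, h.ef, h.ff]
  have hXe : Nat.card Xe = b * c := by
    rw [← hkerψ, ← Subgroup.card_mul_index ψ.ker, Subgroup.index_ker,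
      MonoidHom.range_eq_top.2 hψsurj, Subgroup.card_top]
  let Up : Subgroup Xe := (powMonoidHom (q + 1) : cset hF H h →* cset hF H h).ker.comap ψ
  have hUp : Nat.card Up = b * s := by
    have h1 := Subgroup.card_mul_index Up
    rw [Subgroup.index_comap_of_surjective _ hψsurj, hXe] at h1
    have h2 := Subgroup.card_mul_index (powMonoidHom (q + 1) : cset hF H h →* cset hF H h).ker
    rw [IsCyclic.card_powMonoidHom_ker, ← hc, ← hs] at h2
    have hi := Subgroup.index_ne_zero_of_finite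
      (H := (powMonoidHom (q + 1) : cset hF H h →* cset hF H h).ker)
    refine Nat.eq_of_mul_eq_mul_right (Nat.pos_of_ne_zero hi) ?_
    rw [h1, mul_assoc, h2]
  have hmemUp : ∀ g : Xe, g ∈ Up ↔ (((ψ g : cset hF H h) : Fˣ) : F) ^ (q + 1) = 1 := fun g => by
    rw [← Units.val_pow_eq_pow_val, Units.val_eq_one]
    exact ⟨fun h' => congrArg Subtype.val h', fun h' => Subtype.ext h'⟩
  -- the kernel of the action
  let Sc : Subgroup (stabP H w) := (MulAction.toPermHom (stabP H w) L).ker
  have hSc : ∀ g, g ∈ Sc ↔ ∀ p : L, g • p = p := fun g =>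
    ⟨fun hg p => Equiv.congr_fun (MonoidHom.mem_ker.1 hg) p,
      fun hg => MonoidHom.mem_ker.2 (Equiv.ext hg)⟩
  have hfe : ∀ g : stabP H w,
      g • lineOf hF H h none = lineOf hF H h none ↔ g ∈ Xe := fun g => by
    rw [fix_none hF H h g (plane_coords hF H h g).1]
    constructor
    · intro h0
      have h1 := (plane_coords hF H h g).1
      rw [h0, zero_smul, add_zero] at h1
      exact ⟨g.2.1, _, fun e0 => (smul_ne_zero_iff_ne g.1).2 (h.e_ne hF)
        (by rw [h1, e0, zero_smul]), h1⟩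
    · rintro ⟨-, a, -, ha⟩
      change g.1 • e = a • e at ha
      rw [ha, herm_smul_left, h.ee, mul_zero]
  -- the elements fixing the line of `e`
  have hXe_fix : ∀ (g : Xe), ∃ a b' : F, a ≠ 0 ∧ g.1.1 • e = a • e ∧
      ((((ψ g : cset hF H h) : Fˣ) : F) = a) ∧
      (∀ r, g.1 • lineOf hF H h (some r) = lineOf hF H h (some r) ↔
        a * r + b' = r * (a ^ q)⁻¹) := by
    intro g
    obtain ⟨-, κ, -, hκ⟩ := g.1.2
    obtain ⟨-, a, ha0, hae⟩ := g.2
    obtain ⟨b', g1, -⟩ := coords_in_line hF h hae hκ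
    refine ⟨a, b', ha0, hae, hψeq g hae, fun r => ?_⟩
    rw [fix_some hF H h g.1 (u3 := 0) (u4 := (a ^ q)⁻¹) (u2 := b') (u1 := a)
      (by rw [zero_smul, add_zero]; exact hae) g1 r, zero_mul, zero_add]
  have hinv : ∀ a : F, a ≠ 0 → ((a ^ q)⁻¹ = a ↔ a ^ (q + 1) = 1) := fun a ha => by
    exact ⟨fun e' => by
        rw [pow_succ]
        calc a ^ q * a = a ^ q * (a ^ q)⁻¹ := by rw [e']
          _ = 1 := mul_inv_cancel₀ (pow_ne_zero q ha),
      fun e' => inv_eq_of_mul_eq_one_right (by rw [← pow_succ]; exact e')⟩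
  have hScard : Nat.card Sc = s := by
    have hle : Sc ≤ Xe := fun g hg => (hfe g).1 ((hSc g).1 hg _)
    have hmem : ∀ g : Sc, ψ ⟨g.1, hle g.2⟩ ∈
        (powMonoidHom (q + 1) : cset hF H h →* cset hF H h).ker := fun g => by
      obtain ⟨a, b', ha0, -, hψa, hf'⟩ := hXe_fix ⟨g.1, hle g.2⟩
      refine Subgroup.mem_comap.1 ((hmemUp _).2 ?_)
      rw [hψa, ← hinv a ha0]
      have e0 := (hf' 0).1 ((hSc g.1).1 g.2 _)
      have e1 := (hf' 1).1 ((hSc g.1).1 g.2 _)
      linear_combination e0 - e1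
    rw [hs, hc, ← IsCyclic.card_powMonoidHom_ker (G := cset hF H h) (q + 1)]
    refine Nat.card_eq_of_bijective (fun g => ⟨_, hmem g⟩) ⟨?_, ?_⟩
    · intro g g' hgg
      have hψ' := congrArg (fun u => (((u.1 : cset hF H h) : Fˣ) : F)) hgg
      obtain ⟨-, κ, -, hκ⟩ := g.1.2
      obtain ⟨-, κ', -, hκ'⟩ := g'.1.2
      obtain ⟨a, b1, ha0, hae, hψa, hf1⟩ := hXe_fix ⟨g.1, hle g.2⟩
      obtain ⟨a', b2, -, hae', hψa', hf2⟩ := hXe_fix ⟨g'.1, hle g'.2⟩
      simp only [hψa, hψa'] at hψ'
      subst hψ'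
      obtain ⟨d1, g1, g2⟩ := coords_in_line hF h hae hκ
      obtain ⟨d2, g1', g2'⟩ := coords_in_line hF h hae' hκ'
      have z1 : g.1.1 • f = (0 : F) • e + (a ^ q)⁻¹ • f := by
        have := (fix_some hF H h g.1 (u3 := 0) (u4 := (a ^ q)⁻¹) (u2 := d1) (u1 := a)
          (by rw [zero_smul, add_zero]; exact hae) g1 0).1 ((hSc g.1).1 g.2 _)
        simp at this
        rw [g1, this]
      have z2 : g'.1.1 • f = (0 : F) • e + (a ^ q)⁻¹ • f := by
        have := (fix_some hF H h g'.1 (u3 := 0) (u4 := (a ^ q)⁻¹) (u2 := d2) (u1 := a)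
          (by rw [zero_smul, add_zero]; exact hae') g1' 0).1 ((hSc g'.1).1 g'.2 _)
        simp at this
        rw [g1', this]
      exact Subtype.ext (Subtype.ext
        (h.ext hF (hae.trans hae'.symm) (z1.trans z2.symm) (g2.trans g2'.symm)))
    · rintro ⟨u, hu⟩
      obtain ⟨x, rfl⟩ := hψsurj u
      have hu' := (hmemUp x).1 hu
      obtain ⟨-, κ, -, hκ⟩ := x.1.2
      obtain ⟨a, -, ha0, hae, hψa, -⟩ := hXe_fix x
      rw [hψa] at hu'
      obtain ⟨d, g1, -⟩ := coords_in_line hF h hae hκ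
      rw [(hinv a ha0).2 hu'] at g1
      have hpow : ∀ y : F, y ^ (q ^ 2) = y := fun y => by rw [← hF, FiniteField.pow_card]
      have k1 : (x.1.1 ^ (q ^ 2)) • e = a • e := by rw [pow_smul_eigen hae, hpow]
      have k2 : (x.1.1 ^ (q ^ 2)) • f = a • f := by
        rw [pow_smul_triangular hae g1, q_sq_cast hF, hpow]; simp
      have hxS : x.1 ^ (q ^ 2) ∈ Sc := by
        refine (hSc _).2 fun p => ?_
        obtain ⟨_ | r, rfl⟩ := (lineOf_bijective hF H h).2 p
        · exact (fix_none hF H h (x.1 ^ (q ^ 2)) (u1 := a) (u3 := 0)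
            (by rw [zero_smul, add_zero]; exact k1)).2 rfl
        · exact (fix_some hF H h (x.1 ^ (q ^ 2)) (u1 := a) (u2 := 0) (u3 := 0) (u4 := a)
            (by rw [zero_smul, add_zero]; exact k1)
            (by rw [zero_smul, zero_add]; exact k2) r).2 (by ring)
      refine ⟨⟨_, hxS⟩, Subtype.ext (Subtype.ext (Units.ext ?_))⟩
      exact (hψeq ⟨x.1 ^ (q ^ 2), hle hxS⟩ k1).trans hψa.symm
  -- elements fixing only the line of `e`
  let pe := lineOf hF H h none
  let U := {g : stabP H w | fixedBy L g = {pe}}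
  have hU : Nat.card U + s = b * s := by
    have hU' : ∀ g, g ∈ U ↔ ∃ hg : g ∈ Xe, (⟨g, hg⟩ : Xe) ∈ Up ∧ g ∉ Sc := by
      intro g
      constructor
      · intro hg
        have hg' : fixedBy L g = {pe} := hg
        have hmem : g ∈ Xe := (hfe g).1 (show pe ∈ fixedBy L g by rw [hg']; rfl)
        obtain ⟨a, b', ha0, -, hψa, hf'⟩ := hXe_fix ⟨g, hmem⟩
        have hnone : ∀ r, a * r + b' ≠ r * (a ^ q)⁻¹ := fun r hr => by
          have : lineOf hF H h (some r) ∈ fixedBy L g := (hf' r).2 hr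
          rw [hg'] at this
          exact absurd ((lineOf_bijective hF H h).1 this) (by simp)
        refine ⟨hmem, (hmemUp _).2 ?_, fun hgS => hnone 0 ((hf' 0).1 ((hSc g).1 hgS _))⟩
        rw [hψa, ← hinv a ha0]
        by_contra hne
        have hd : (a ^ q)⁻¹ - a ≠ 0 := sub_ne_zero.2 hne
        refine hnone (b' / ((a ^ q)⁻¹ - a)) ?_
        generalize (a ^ q)⁻¹ = u at hd ⊢
        field_simp
        ring
      · rintro ⟨hmem, hUpg, hnS⟩
        obtain ⟨a, b', ha0, hae, hψa, hf'⟩ := hXe_fix ⟨g, hmem⟩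
        rw [hmemUp, hψa, ← hinv a ha0] at hUpg
        ext p
        simp only [mem_fixedBy, Set.mem_singleton_iff]
        obtain ⟨_ | r, rfl⟩ := (lineOf_bijective hF H h).2 p
        · simp [pe, (hfe g).2 hmem]
        · refine iff_of_false (fun hr => hnS ((hSc g).2 fun p => ?_))
            (fun e' => absurd ((lineOf_bijective hF H h).1 e') (by simp))
          have hb : b' = 0 := by
            have := (hf' r).1 hr
            rw [hUpg] at this
            linear_combination this
          obtain ⟨_ | r', rfl⟩ := (lineOf_bijective hF H h).2 p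
          · exact (hfe g).2 hmem
          · exact (hf' r').2 (by rw [hUpg, hb]; ring)
    have hle : Sc ≤ Xe := fun g hg => (hfe g).1 ((hSc g).1 hg _)
    have hSU : ∀ g (hg : g ∈ Sc), (⟨g, hle hg⟩ : Xe) ∈ Up := fun g hg => by
      obtain ⟨a, b', ha0, -, hψa, hf'⟩ := hXe_fix ⟨g, hle hg⟩
      rw [hmemUp, hψa, ← hinv a ha0]
      have e0 := (hf' 0).1 ((hSc g).1 hg _)
      have e1 := (hf' 1).1 ((hSc g).1 hg _)
      linear_combination e0 - e1
    rw [← hScard, ← Nat.card_sum, hScard, ← hUp]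
    refine Nat.card_eq_of_bijective
      (Sum.elim (fun g => ⟨⟨g.1, ((hU' g.1).1 g.2).1⟩, ((hU' g.1).1 g.2).2.1⟩)
        fun g => ⟨⟨g.1, hle g.2⟩, hSU g.1 g.2⟩) ⟨?_, ?_⟩
    · rintro (g | g) (g' | g') hgg <;>
        have hv := congrArg (fun u : Up => u.1.1) hgg <;> simp only [Sum.elim_inl, Sum.elim_inr] at hv
      · exact congrArg Sum.inl (Subtype.ext hv)
      · exact absurd (show g.1 ∈ Sc by rw [hv]; exact g'.2) ((hU' g.1).1 g.2).2.2
      · exact absurd (show g'.1 ∈ Sc by rw [← hv]; exact g.2) ((hU' g'.1).1 g'.2).2.2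
      · exact congrArg Sum.inr (Subtype.ext hv)
    · rintro ⟨⟨g, hg⟩, hgU⟩
      by_cases hgS : g ∈ Sc
      · exact ⟨Sum.inr ⟨g, hgS⟩, rfl⟩
      · exact ⟨Sum.inl ⟨g, (hU' g).2 ⟨hg, hgU, hgS⟩⟩, rfl⟩
  -- the isotropic orbit
  have horb : ∀ o : Option F, lineOf hF H h o ∈ orbit (stabP H w) pe ↔
      (o = none ∨ ∃ r, o = some r ∧ r + r ^ q = 0) := by
    intro o
    constructor
    · rintro ⟨g, hg⟩
      rcases o with _ | r
      · exact Or.inl rfl
      refine Or.inr ⟨r, rfl, ?_⟩
      obtain ⟨a, ha⟩ : ∃ a : F, a • (r • e + f) = g.1 • e :=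
        (Projectivization.mk_eq_mk_iff' F _ _ ((smul_ne_zero_iff_ne g.1).2 (h.e_ne hF))
          (plane_ne_zero hF h r)).1 (congrArg Subtype.val hg)
      have hh := herm_smul_SU g.1 e e
      rw [← ha, h.ee] at hh
      have ha0 : a ≠ 0 := fun e0 => (smul_ne_zero_iff_ne g.1).2 (h.e_ne hF)
        (by rw [← ha, e0, zero_smul])
      simp [herm_add_left, herm_smul_left, herm_add_right hF, herm_smul_right hF, h.ee, h.ff,
        h.ef, h.fe hF] at hh
      have h0 : a * a ^ q * (r + r ^ q) = 0 := by linear_combination hh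
      exact (mul_eq_zero.1 h0).resolve_left (mul_ne_zero ha0 (pow_ne_zero _ ha0))
    · exact fun ho => hiso o ho
  have hO : Nat.card (orbit (stabP H w) pe) = q + 1 := by
    refine Eq.trans ?_ (show Nat.card (Option {r : F // r + r ^ q = 0}) = q + 1 by
      rw [Finite.card_option, card_trace_ker hF])
    refine (Nat.card_eq_of_bijective (fun o => (⟨lineOf hF H h (o.map (·.1)), ?_⟩ :
      orbit (stabP H w) pe)) ⟨?_, ?_⟩).symm
    · exact (horb _).2 (by rcases o with _ | r <;> simp; exact r.2)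
    · intro o o' ho
      exact Option.map_injective Subtype.val_injective
        ((lineOf_bijective hF H h).1 (congrArg Subtype.val ho))
    · rintro ⟨p, hp⟩
      obtain ⟨o, rfl⟩ := (lineOf_bijective hF H h).2 p
      rcases (horb o).1 hp with rfl | ⟨r, rfl, hr⟩
      · exact ⟨none, rfl⟩
      · exact ⟨some ⟨r, hr⟩, rfl⟩
  have hX : Nat.card (stabP H w) = N * s := by
    rw [← Subgroup.card_mul_index (MulAction.stabilizer (stabP H w) pe),
      MulAction.index_stabilizer, ← Nat.card_coe_set_eq, hO,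
      show MulAction.stabilizer (stabP H w) pe = Xe from
        SetLike.ext fun g => MulAction.mem_stabilizer_iff.trans (hfe g), hXe, hN, ← hms]
    ring
  have hq := two_le_q hF
  obtain ⟨R, T, hT, hR, hTs⟩ := orbit_sum (G := stabP H w) (L := L) pe (k := q + 1) (s := s)
    (u := Nat.card U) (N := N) (l := q ^ 2 + 1) (card_lineSet hF H h) (by nlinarith) hO hScard rfl
    hX (fun g => by
      obtain hall | htwo | ⟨o, ho, hoiso⟩ := fix_cases hF H h g
      · exact Or.inl hall
      · exact Or.inr (Or.inl htwo)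
      · exact Or.inr (Or.inr ⟨_, (horb o).2 hoiso, ho⟩))
  refine ⟨T, hT, ?_⟩
  have e1 : R * N + (q + 1) * b = 2 * N + (q ^ 2 + q) := by
    refine Nat.eq_of_mul_eq_mul_right hspos ?_
    linear_combination hR - (q + 1) * hU
  linarith [hTs, e1]

end Cfsg.Agent.MinIndexU3
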