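import Cfsg.Agent.MinIndexU3.Frame

/-!
The point stabiliser of a subgroup of `SU₃(q)` and its invariants (helper10).
-/

set_option autoImplicit false

namespace Cfsg.Agent.MinIndexU3

open Matrix Cfsg.Agent.Unitary

variable {F : Type*} [Field F] [Fintype F] {q : ℕ} (hF : Fintype.card F = q ^ 2)
variable (H : Subgroup (SU 3 F q)) {e f w : Fin 3 → F}

/-- The stabiliser in `H` of the point of `e`. -/
def stabP (e : Fin 3 → F) : Subgroup (SU 3 F q) where
  carrier := {g | g ∈ H ∧ ∃ a : F, a ≠ 0 ∧ g • e = a • e}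
  one_mem' := ⟨one_mem H, 1, one_ne_zero, by rw [one_smul, one_smul]⟩
  mul_mem' := by
    rintro g g' ⟨hg, a, ha, e1⟩ ⟨hg', a', ha', e2⟩
    exact ⟨mul_mem hg hg', a' * a, mul_ne_zero ha' ha, by
      rw [mul_smul, e2, smul_comm g, e1, smul_smul]⟩
  inv_mem' := by
    rintro g ⟨hg, a, ha, e1⟩
    refine ⟨inv_mem hg, a⁻¹, inv_ne_zero ha, ?_⟩
    rw [inv_smul_eq_iff, smul_comm g, e1, inv_smul_smul₀ ha]

/-- The elements of `H` fixing `e`. -/
def axisA (e : Fin 3 → F) : Subgroup (SU 3 F q) where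
  carrier := {g | g ∈ H ∧ g • e = e}
  one_mem' := ⟨one_mem H, one_smul _ _⟩
  mul_mem' := fun ⟨h1, e1⟩ ⟨h2, e2⟩ => ⟨mul_mem h1 h2, by rw [mul_smul, e2, e1]⟩
  inv_mem' := fun ⟨h1, e1⟩ => ⟨inv_mem h1, by rw [inv_smul_eq_iff, e1]⟩

variable (h : Frame3 q e f w)
include hF h

omit hF h in
theorem smul_comb (g : SU 3 F q) (a b c : F) (x y z : Fin 3 → F) :
    g • (a • x + b • y + c • z) = a • (g • x) + b • (g • y) + c • (g • z) := by
  rw [smul_add, smul_add, smul_comm g a, smul_comm g b, smul_comm g c]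

theorem coords_unip {g : SU 3 F q} (hg : g • e = e) :
    ∃ b z : F, g • f = b • e + f + z • w ∧ g • w = (-(z ^ q)) • e + w ∧
      b + b ^ q + z * z ^ q = 0 := by
  obtain ⟨b, z, -, h1, h2, h3⟩ := h.exists_coords hF (g := g) (a := 1) (by rw [hg, one_smul])
  simp only [one_pow, inv_one, one_smul, mul_one, one_mul] at h1 h2 h3
  exact ⟨b, z, h1, h2, h3⟩

theorem zb_of {g : SU 3 F q} {a b z : F} (hg : g • f = b • e + a • f + z • w) :
    herm q (g • f) f = b ∧ herm q (g • f) w = z := by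
  constructor <;>
    simp [hg, herm_add_left, herm_smul_left, h.ef, h.ff, h.wf, h.ew hF, h.fw hF, h.ww]

theorem zb_unip {g : SU 3 F q} {b z : F} (hg : g • f = b • e + f + z • w) :
    herm q (g • f) f = b ∧ herm q (g • f) w = z :=
  zb_of hF h (a := 1) (by rw [hg, one_smul])

/-- Composition of unipotent elements. -/
theorem unip_mul {g g' : SU 3 F q} (hg : g • e = e) {b z b' z' : F}
    (h1 : g • f = b • e + f + z • w) (h2 : g • w = (-(z ^ q)) • e + w)
    (h1' : g' • f = b' • e + f + z' • w) :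
    (g * g') • f = (b + b' - z ^ q * z') • e + f + (z + z') • w := by
  rw [mul_smul, h1', smul_add, smul_add, smul_comm g b', hg, h1, smul_comm g z', h2]
  match_scalars <;> ring

/-- The values of the translation part. -/
noncomputable def zset (hF : Fintype.card F = q ^ 2) (H : Subgroup (SU 3 F q)) (h : Frame3 q e f w) : AddSubgroup F where
  carrier := {z | ∃ g ∈ H, g • e = e ∧ herm q (g • f) w = z}
  zero_mem' := ⟨1, one_mem H, one_smul _ _, by rw [one_smul, h.fw hF]⟩
  add_mem' := by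
    rintro _ _ ⟨g, hg, he, rfl⟩ ⟨g', hg', he', rfl⟩
    obtain ⟨b, z, h1, h2, -⟩ := coords_unip hF h he
    obtain ⟨b', z', h1', -, -⟩ := coords_unip hF h he'
    refine ⟨g * g', mul_mem hg hg', by rw [mul_smul, he', he], ?_⟩
    have e1 := unip_mul hF h he h1 h2 h1'
    rw [(zb_unip hF h e1).2, (zb_unip hF h h1).2, (zb_unip hF h h1').2]
  neg_mem' := by
    rintro _ ⟨g, hg, he, rfl⟩
    have he' : g⁻¹ • e = e := by rw [inv_smul_eq_iff, he]
    obtain ⟨b, z, h1, h2, -⟩ := coords_unip hF h he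
    obtain ⟨b', z', h1', -, -⟩ := coords_unip hF h he'
    refine ⟨g⁻¹, inv_mem hg, he', ?_⟩
    have e1 := unip_mul hF h he h1 h2 h1'
    rw [mul_inv_cancel, one_smul] at e1
    have e2 := congrArg (fun x => herm q x w) e1
    simp [herm_add_left, herm_smul_left, h.ew hF, h.fw hF, h.ww] at e2
    rw [(zb_unip hF h h1).2, (zb_unip hF h h1').2]
    linear_combination -e2

/-- The values of the transvection part. -/
noncomputable def bset (_hF : Fintype.card F = q ^ 2) (H : Subgroup (SU 3 F q)) (_h : Frame3 q e f w) : AddSubgroup F where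
  carrier := {b | ∃ g ∈ H, g • e = e ∧ g • f = b • e + f}
  zero_mem' := ⟨1, one_mem H, one_smul _ _, by rw [one_smul, zero_smul, zero_add]⟩
  add_mem' := by
    rintro b b' ⟨g, hg, he, h1⟩ ⟨g', hg', he', h1'⟩
    refine ⟨g * g', mul_mem hg hg', by rw [mul_smul, he', he], ?_⟩
    rw [mul_smul, h1', smul_add, smul_comm g b', he, h1, add_smul]
    abel
  neg_mem' := by
    rintro b ⟨g, hg, he, h1⟩
    refine ⟨g⁻¹, inv_mem hg, by rw [inv_smul_eq_iff, he], ?_⟩
    rw [inv_smul_eq_iff, smul_add, smul_comm g (-b), he, h1, neg_smul]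
    abel

theorem bset_trace {b : F} (hb : b ∈ bset hF H h) : b + b ^ q = 0 := by
  obtain ⟨g, -, he, h1⟩ := hb
  obtain ⟨b', z, h1', -, h3⟩ := coords_unip hF h he
  have hz := (zb_unip hF h h1').2
  have hb' := (zb_unip hF h h1').1
  have h1a : g • f = b • e + f + (0 : F) • w := by rw [h1]; simp
  rw [(zb_unip hF h h1a).2] at hz
  rw [(zb_unip hF h h1a).1] at hb'
  subst hz hb'
  simpa [zero_pow_q hF] using h3

theorem card_bset_le : Nat.card (bset hF H h) ≤ q :=
  (Nat.card_le_card_of_injective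
    (fun b : bset hF H h => (⟨b.1, bset_trace hF H h b.2⟩ : {x : F // x + x ^ q = 0}))
    fun b b' hbb => Subtype.ext (congrArg (fun x : {x : F // x + x ^ q = 0} => x.1) hbb)).trans
    (card_trace_ker_le hF)

/-- `|A| = |Z|·|B|`. -/
theorem card_axisA :
    Nat.card (axisA H e) = Nat.card (zset hF H h) * Nat.card (bset hF H h) := by
  classical
  let π : axisA H e →* Multiplicative (zset hF H h) :=
    { toFun := fun g => Multiplicative.ofAdd ⟨herm q (g.1 • f) w, g.1, g.2.1, g.2.2, rfl⟩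
      map_one' := by
        rw [← ofAdd_zero]; congr 1; refine Subtype.ext ?_
        show herm q ((1 : SU 3 F q) • f) w = 0
        rw [one_smul, h.fw hF]
      map_mul' := fun g g' => by
        rw [← ofAdd_add]; congr 1; refine Subtype.ext ?_
        show herm q ((g.1 * g'.1) • f) w = herm q (g.1 • f) w + herm q (g'.1 • f) w
        obtain ⟨b, z, h1, h2, -⟩ := coords_unip hF h g.2.2
        obtain ⟨b', z', h1', -, -⟩ := coords_unip hF h g'.2.2
        have e1 := unip_mul hF h g.2.2 h1 h2 h1'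
        rw [(zb_unip hF h e1).2, (zb_unip hF h h1).2, (zb_unip hF h h1').2] }
  have hker : ∀ g : axisA H e, g ∈ π.ker ↔ g.1 • f = herm q (g.1 • f) f • e + f := fun g => by
    obtain ⟨b, z, h1, -, -⟩ := coords_unip hF h g.2.2
    have hz := (zb_unip hF h h1).2
    have hb := (zb_unip hF h h1).1
    show Multiplicative.ofAdd _ = 1 ↔ _
    rw [ofAdd_eq_one, ← Subtype.coe_inj]
    show herm q (g.1 • f) w = 0 ↔ _
    rw [hz, hb, h1]
    constructor
    · rintro rfl; simp
    · intro e1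
      have := congrArg (fun x => herm q x w) e1
      simpa [herm_add_left, herm_smul_left, h.ew hF, h.fw hF, h.ww] using this
  have h1 : Nat.card π.ker = Nat.card (bset hF H h) := by
    refine Nat.card_eq_of_bijective
      (fun g => ⟨herm q (g.1.1 • f) f, g.1.1, g.1.2.1, g.1.2.2, (hker g.1).1 g.2⟩) ⟨?_, ?_⟩
    · intro g g' hgg
      refine Subtype.ext (Subtype.ext (h.ext hF (by rw [g.1.2.2, g'.1.2.2]) ?_ ?_))
      · rw [(hker g.1).1 g.2, (hker g'.1).1 g'.2]
        exact congrArg (· • e + f) (congrArg (fun z : bset hF H h => z.1) hgg)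
      · obtain ⟨b, z, e1, e2, -⟩ := coords_unip hF h g.1.2.2
        obtain ⟨b', z', e1', e2', -⟩ := coords_unip hF h g'.1.2.2
        have k : ∀ (u : axisA H e), u ∈ π.ker → herm q (u.1 • f) w = 0 := fun u hu =>
          congrArg Subtype.val (ofAdd_eq_one.1 (MonoidHom.mem_ker.1 hu))
        have hz := (zb_unip hF h e1).2
        have hz' := (zb_unip hF h e1').2
        rw [k _ g.2] at hz
        rw [k _ g'.2] at hz'
        rw [e2, e2', ← hz, ← hz']
    · rintro ⟨b, g, hg, he, h1⟩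
      have hfb : herm q (g • f) f = b := by
        simp [h1, herm_add_left, herm_smul_left, h.ef, h.ff]
      refine ⟨⟨⟨g, hg, he⟩, (hker _).2 ?_⟩, Subtype.ext hfb⟩
      show g • f = herm q (g • f) f • e + f
      rw [hfb, h1]
  have h2 : π.range = ⊤ := by
    refine MonoidHom.range_eq_top.2 fun z => ?_
    obtain ⟨g, hg, he, hz⟩ := (Multiplicative.toAdd z).2
    exact ⟨⟨g, hg, he⟩, congrArg Multiplicative.ofAdd (Subtype.ext hz)⟩
  rw [← Subgroup.card_mul_index π.ker, Subgroup.index_ker, h2, Subgroup.card_top, h1, mul_comm]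
  rfl

/-- The eigenvalue at `e`. -/
noncomputable def chiF (_hF : Fintype.card F = q ^ 2) (H : Subgroup (SU 3 F q)) (h : Frame3 q e f w) : stabP H e →* F where
  toFun g := herm q (g.1 • e) f
  map_one' := by
    show herm q ((1 : SU 3 F q) • e) f = 1
    rw [one_smul, h.ef]
  map_mul' g g' := by
    obtain ⟨-, a, -, e1⟩ := g.2
    obtain ⟨-, a', -, e2⟩ := g'.2
    show herm q ((g.1 * g'.1) • e) f = herm q (g.1 • e) f * herm q (g'.1 • e) f
    rw [mul_smul, e2, smul_comm g.1, e1]
    simp [herm_smul_left, h.ef, mul_comm]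

/-- The eigenvalue at `e`, as a unit. -/
noncomputable def chi (hF : Fintype.card F = q ^ 2) (H : Subgroup (SU 3 F q)) (h : Frame3 q e f w) : stabP H e →* Fˣ := (chiF hF H h).toHomUnits

/-- The eigenvalues at `e`. -/
noncomputable def cset (hF : Fintype.card F = q ^ 2) (H : Subgroup (SU 3 F q)) (h : Frame3 q e f w) : Subgroup Fˣ := (chi hF H h).range

theorem smul_eq_chi (g : stabP H e) : g.1 • e = ((chi hF H h g : Fˣ) : F) • e := by
  obtain ⟨-, a, -, e1⟩ := g.2
  show g.1 • e = herm q (g.1 • e) f • e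
  rw [e1, herm_smul_left, h.ef, mul_one]

theorem card_stabP :
    Nat.card (stabP H e) = Nat.card (axisA H e) * Nat.card (cset hF H h) := by
  rw [← Subgroup.card_mul_index (chi hF H h).ker, Subgroup.index_ker]
  congr 1
  refine Nat.card_eq_of_bijective (fun g => (⟨g.1.1, g.1.2.1, ?_⟩ : axisA H e)) ⟨?_, ?_⟩
  · rw [smul_eq_chi hF H h, MonoidHom.mem_ker.1 g.2, Units.val_one, one_smul]
  · intro g g' hgg
    exact Subtype.ext (Subtype.ext (congrArg (fun u : axisA H e => u.1) hgg))
  · rintro ⟨g, hg, he⟩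
    refine ⟨⟨⟨g, hg, 1, one_ne_zero, by rw [he, one_smul]⟩, ?_⟩, rfl⟩
    refine Units.ext ?_
    show herm q (g • e) f = 1
    rw [he, h.ef]

theorem mem_cset {a : Fˣ} (ha : a ∈ cset hF H h) : ∃ g ∈ H, g • e = (a : F) • e := by
  obtain ⟨g, rfl⟩ := ha
  exact ⟨g.1, g.2.1, smul_eq_chi hF H h g⟩

theorem card_cset_dvd : Nat.card (cset hF H h) ∣ q ^ 2 - 1 := by
  have := Subgroup.card_subgroup_dvd_card (cset hF H h)
  rwa [Nat.card_units, Nat.card_eq_fintype_card (α := F), hF] at this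

/-- The torus acts on the translations. -/
theorem zset_scale {a : Fˣ} (ha : a ∈ cset hF H h) {z : F} (hz : z ∈ zset hF H h) :
    z * ((a : F) ^ (q - 1) * (a : F) ^ q) ∈ zset hF H h := by
  obtain ⟨g, hg, hga⟩ := mem_cset hF H h ha
  obtain ⟨u, hu, hue, rfl⟩ := hz
  obtain ⟨b, z, ha0, g1, g2, -⟩ := h.exists_coords hF hga
  obtain ⟨b', z', u1, u2, -⟩ := coords_unip hF h hue
  have hue' : (g * u * g⁻¹) • e = e := by
    have : g⁻¹ • e = (a : F)⁻¹ • e := by
      rw [inv_smul_eq_iff, smul_comm g, hga, inv_smul_smul₀ ha0]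
    rw [mul_smul, this, smul_comm (g * u), mul_smul, hue, hga, inv_smul_smul₀ ha0]
  refine ⟨g * u * g⁻¹, mul_mem (mul_mem hg hu) (inv_mem hg), hue', ?_⟩
  obtain ⟨b'', z'', v1, v2, -⟩ := coords_unip hF h hue'
  have key : (g * u * g⁻¹) • (g • f) = g • (u • f) := by rw [← mul_smul, inv_mul_cancel_right, mul_smul]
  rw [g1, u1, smul_comb, hue', v1, v2, ← one_smul F f, smul_comb, hga, one_smul, one_smul, g1, g2]
    at key
  have hk := congrArg (fun x => herm q x w) key
  simp [herm_add_left, herm_smul_left, herm_neg_left, h.ew hF, h.fw hF, h.ww] at hk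
  have hz'' := (zb_unip hF h v1).2
  have hz' := (zb_unip hF h u1).2
  rw [hz'', hz']
  field_simp at hk ⊢
  linear_combination hk

/-- The torus acts on the transvections. -/
theorem bset_scale {a : Fˣ} (ha : a ∈ cset hF H h) {b : F} (hb : b ∈ bset hF H h) :
    (a : F) ^ (q + 1) * b ∈ bset hF H h := by
  obtain ⟨g, hg, hga⟩ := mem_cset hF H h ha
  obtain ⟨u, hu, hue, hub⟩ := hb
  obtain ⟨b₀, z, ha0, g1, g2, -⟩ := h.exists_coords hF hga
  have huw : u • w = w := by
    obtain ⟨b', z', u1, u2, -⟩ := coords_unip hF h hue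
    have hu0 := congrArg (fun x => herm q x w) (u1.symm.trans hub)
    simp [herm_add_left, herm_smul_left, h.ew hF, h.fw hF, h.ww] at hu0
    simpa [hu0, zero_pow_q hF] using u2
  have hginv : g⁻¹ • e = (a : F)⁻¹ • e := by
    rw [inv_smul_eq_iff, smul_comm g, hga, inv_smul_smul₀ ha0]
  have hue' : (g * u * g⁻¹) • e = e := by
    rw [mul_smul, hginv, smul_comm (g * u), mul_smul, hue, hga, inv_smul_smul₀ ha0]
  refine ⟨g * u * g⁻¹, mul_mem (mul_mem hg hu) (inv_mem hg), hue', ?_⟩
  have key : (g * u * g⁻¹) • (g • f) = g • (u • f) := by rw [← mul_smul, inv_mul_cancel_right, mul_smul]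
  have key2 : (g * u * g⁻¹) • (g • w) = g • (u • w) := by rw [← mul_smul, inv_mul_cancel_right, mul_smul]
  have hw' : (g * u * g⁻¹) • w = w := by
    rw [huw, g2, smul_add, smul_comm _ (-((a : F) ^ q * z ^ q)), hue', smul_comm _ ((a : F) ^ (q - 1)),
      add_right_inj] at key2
    exact smul_right_injective _ (pow_ne_zero _ ha0) key2
  rw [g1, hub, smul_comb, hue', hw', smul_add, smul_comm g b, hga, g1, smul_smul] at key
  have hne : ((a : F) ^ q)⁻¹ ≠ 0 := inv_ne_zero (pow_ne_zero _ ha0)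
  refine smul_right_injective _ hne ?_
  show ((a : F) ^ q)⁻¹ • _ = ((a : F) ^ q)⁻¹ • _
  rw [smul_add, smul_smul, show ((a : F) ^ q)⁻¹ * ((a : F) ^ (q + 1) * b) = b * (a : F) by
    field_simp; ring]
  have := congrArg (fun x => x - b₀ • e - z • w) key
  convert this using 1 <;> abel

/-- Commutators of translations. -/
theorem bset_comm {z₁ z₂ : F} (h1 : z₁ ∈ zset hF H h) (h2 : z₂ ∈ zset hF H h) :
    z₁ * z₂ ^ q - z₁ ^ q * z₂ ∈ bset hF H h := by
  obtain ⟨g, hg, he, rfl⟩ := h1
  obtain ⟨g', hg', he', rfl⟩ := h2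
  obtain ⟨b, z, g1, g2, -⟩ := coords_unip hF h he
  obtain ⟨b', z', g1', g2', -⟩ := coords_unip hF h he'
  have e1 := unip_mul hF h he g1 g2 g1'
  have e2 := unip_mul hF h he' g1' g2' g1
  have hge : (g * g') • e = e := by rw [mul_smul, he', he]
  have hge' : (g' * g) • e = e := by rw [mul_smul, he, he']
  have hke : ((g' * g)⁻¹ * (g * g')) • e = e := by
    rw [mul_smul, hge, inv_smul_eq_iff, hge']
  refine ⟨(g' * g)⁻¹ * (g * g'), mul_mem (inv_mem (mul_mem hg' hg)) (mul_mem hg hg'), hke, ?_⟩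
  rw [mul_smul, inv_smul_eq_iff, e1, smul_add, smul_comm (g' * g), hge', e2]
  have hz := (zb_unip hF h g1).2
  have hz' := (zb_unip hF h g1').2
  rw [hz, hz']
  match_scalars <;> ring

/-- Squares of translations in characteristic two. -/
theorem bset_norm [CharP F 2] {z : F} (hz : z ∈ zset hF H h) : z * z ^ q ∈ bset hF H h := by
  obtain ⟨g, hg, he, rfl⟩ := hz
  obtain ⟨b, z, g1, g2, -⟩ := coords_unip hF h he
  refine ⟨g * g, mul_mem hg hg, by rw [mul_smul, he, he], ?_⟩
  rw [unip_mul hF h he g1 g2 g1]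
  have hz := (zb_unip hF h g1).2
  rw [hz, CharTwo.add_self_eq_zero, CharTwo.add_self_eq_zero, CharTwo.sub_eq_add, zero_add,
    zero_smul, add_zero, mul_comm z]

/-- A non-trivial element fixing `e` fixes only its point. -/
theorem unip_fix {g : SU 3 F q} (he : g • e = e) (hg1 : g ≠ 1) {y : Fin 3 → F}
    (hy : herm q y y = 0) {a : F} (hgy : g • y = a • y) : ∃ k : F, y = k • e := by
  obtain ⟨b, z, g1, g2, h3⟩ := coords_unip hF h he
  obtain ⟨α, β, γ, rfl⟩ : ∃ α β γ : F, y = α • e + β • f + γ • w :=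
    ⟨_, _, _, h.decomp hF y⟩
  have hy' : α * β ^ q + β * α ^ q + γ * γ ^ q = 0 := (h.herm_comb hF _ _ _ _ _ _).symm.trans hy
  rw [smul_add, smul_add, smul_comm g α, he, smul_comm g β, g1, smul_comm g γ, g2] at hgy
  have hw := congrArg (fun v => herm q v w) hgy
  have hf := congrArg (fun v => herm q v e) hgy
  have hee := congrArg (fun v => herm q v f) hgy
  simp [herm_add_left, herm_smul_left, herm_neg_left, h.ew hF, h.fw hF, h.ww, h.ee, h.fe hF, h.we,
    h.ef, h.ff, h.wf] at hw hf hee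
  by_cases hβ : β = 0
  · subst hβ
    have hγ : γ = 0 := by
      have h0 : γ * γ ^ q = 0 := by simpa [zero_pow_q hF] using hy'
      rcases mul_eq_zero.1 h0 with h0 | h0
      · exact h0
      · exact (pow_q_eq_zero_iff hF).1 h0
    exact ⟨α, by simp [hγ]⟩
  exfalso
  have ha : a = 1 := by
    have : (a - 1) * β = 0 := by linear_combination -hf
    exact sub_eq_zero.1 ((mul_eq_zero.1 this).resolve_right hβ)
  subst ha
  have hz : z = 0 := by
    have : β * z = 0 := by linear_combination hw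
    exact (mul_eq_zero.1 this).resolve_left hβ
  subst hz
  have hb : b = 0 := by
    simp [zero_pow_q hF] at hee
    tauto
  subst hb
  apply hg1
  refine h.ext hF (by rw [he, one_smul]) ?_ ?_
  · simpa using g1
  · simpa [zero_pow_q hF] using g2

omit h in
include hF in
theorem pow_char_addSubgroup (p : ℕ) [Fact p.Prime] [CharP F p] (S : AddSubgroup F) :
    ∃ k, Nat.card S = p ^ k := by
  haveI : Finite F := Finite.of_fintype F
  obtain ⟨n, -, hn⟩ := FiniteField.card F p
  have := AddSubgroup.card_addSubgroup_dvd_card S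
  rw [Nat.card_eq_fintype_card (α := F), hn] at this
  obtain ⟨k, -, hk⟩ := (Nat.dvd_prime_pow Fact.out).1 this
  exact ⟨k, hk⟩

end Cfsg.Agent.MinIndexU3
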