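import Cfsg.Agent.MinIndexU3.Point
import Cfsg.Agent.MinIndexU3.Field

/-!
Semisimple elements in the point stabiliser of a subgroup of `SU₃(q)` (helper10).
-/

set_option autoImplicit false

namespace Cfsg.Agent.MinIndexU3

open Matrix Cfsg.Agent.Unitary

variable {F : Type*} [Field F] [Fintype F] {q : ℕ} (hF : Fintype.card F = q ^ 2)
variable (H : Subgroup (SU 3 F q)) {e f w : Fin 3 → F} (h : Frame3 q e f w)
include hF h

/-- The invariants of the point stabiliser. -/
noncomputable def pointData (hF : Fintype.card F = q ^ 2) (H : Subgroup (SU 3 F q))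
    (h : Frame3 q e f w) : PointData F q where
  Z := zset hF H h
  B := bset hF H h
  C := cset hF H h
  trace _ hb := bset_trace hF H h hb
  scaleZ _ ha _ hz := zset_scale hF H h ha hz
  scaleB _ ha _ hb := bset_scale hF H h ha hb
  comm _ h1 _ h2 := bset_comm hF H h h1 h2
  norm hc _ hz := by haveI := hc; exact bset_norm hF H h hz

theorem smul_w_of_transvection {u : SU 3 F q} {b : F} (hue : u • e = e)
    (hub : u • f = b • e + f) : u • w = w := by
  obtain ⟨b', z', u1, u2, -⟩ := coords_unip hF h hue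
  have h0 := congrArg (fun x => herm q x w) (u1.symm.trans hub)
  simp [herm_add_left, herm_smul_left, h.ew hF, h.fw hF, h.ww] at h0
  simpa [h0, zero_pow_q hF] using u2

theorem bset_le_frame {f' w' : Fin 3 → F} (h' : Frame3 q e f' w') :
    bset hF H h ≤ bset hF H h' := by
  rintro b ⟨u, hu, hue, hub⟩
  refine ⟨u, hu, hue, ?_⟩
  have hd := h.decomp hF f'
  rw [h'.fe hF, one_smul] at hd
  conv_lhs => rw [hd]
  conv_rhs => rw [hd]
  rw [smul_add, smul_add, smul_comm u, smul_comm u (herm q f' w), hue, hub,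
    smul_w_of_transvection hF h hue hub]
  abel

theorem card_bset_frame {f' w' : Fin 3 → F} (h' : Frame3 q e f' w') :
    Nat.card (bset hF H h) = Nat.card (bset hF H h') := by
  rw [le_antisymm (bset_le_frame hF H h h') (bset_le_frame hF H h' h)]

theorem tv_mem_of_full (hfull : Nat.card (bset hF H h) = q) {a c : F}
    (hu : herm q (a • e) (a • e) = 0) (hc : c + c ^ q = 0) : tv hF hu hc ∈ H := by
  have hinj : Function.Injective
      (fun b : bset hF H h => (⟨b.1, bset_trace hF H h b.2⟩ : {x : F // x + x ^ q = 0})) :=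
    fun b b' hbb => Subtype.ext (congrArg (fun x : {x : F // x + x ^ q = 0} => x.1) hbb)
  have hsurj := (Function.Injective.bijective_of_nat_card_le hinj
    (by rw [card_trace_ker hF, hfull])).2
  have hc' : c * a ^ q * a + (c * a ^ q * a) ^ q = 0 := by
    rw [mul_pow, mul_pow, pow_q_pow_q hF]; linear_combination (a * a ^ q) * hc
  obtain ⟨⟨b, g, hg, hge, hgf⟩, hb⟩ := hsurj ⟨_, hc'⟩
  have hb' : b = c * a ^ q * a := congrArg (fun x : {x : F // x + x ^ q = 0} => x.1) hb
  suffices tv hF hu hc = g by rw [this]; exact hg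
  refine h.ext hF ?_ ?_ ?_
  · rw [tv_smul, hge, herm_smul_right hF, h.ee]
    simp
  · rw [tv_smul, hgf, hb', herm_smul_right hF, h.fe hF, smul_smul, add_comm, mul_one]
  · rw [tv_smul, smul_w_of_transvection hF h hge hgf, herm_smul_right hF, h.we]
    simp

omit h in
theorem q_sq_cast : ((q ^ 2 : ℕ) : F) = 0 := by rw [← hF]; exact Nat.cast_card_eq_zero F

omit hF h in
theorem pow_smul_triangular {g : SU 3 F q} {a b : F} {u v : Fin 3 → F} (hu : g • u = a • u)
    (hv : g • v = b • u + a • v) (k : ℕ) :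
    g ^ k • v = ((k : F) * a ^ (k - 1) * b) • u + a ^ k • v := by
  induction k with
  | zero => simp
  | succ k ih =>
    rw [pow_succ', mul_smul, ih, smul_add, smul_comm g, hu, smul_comm g, hv]
    rcases k with _ | k
    · simp
    · rw [show k + 1 + 1 - 1 = k + 1 from rfl, show k + 1 - 1 = k from rfl]
      match_scalars <;> push_cast <;> ring

omit hF h in
theorem pow_smul_eigen {g : SU 3 F q} {a : F} {u : Fin 3 → F} (hu : g • u = a • u) (k : ℕ) :
    g ^ k • u = a ^ k • u := by
  induction k with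
  | zero => simp
  | succ k ih => rw [pow_succ', mul_smul, ih, smul_comm g, hu, smul_smul, ← pow_succ]

/-- A frame in which an element of `H` is diagonal with two equal eigenvalues. -/
theorem exists_diag {g : SU 3 F q} (hg : g ∈ H) {α : F} (hga : g • e = α • e)
    (hα : α ^ (q + 1) = 1) (hα3 : α ^ 3 ≠ 1) :
    ∃ f' w' : Fin 3 → F, Frame3 q e f' w' ∧
      ∃ t ∈ H, ∃ β : F, t • e = α • e ∧ t • f' = α • f' ∧ t • w' = β • w' ∧ β ≠ α ∧
        β * α ^ 2 = 1 := by
  obtain ⟨b, z, hα0, g1, g2, -⟩ := h.exists_coords hF hga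
  have hq1 : α * α ^ q = 1 := by rw [← pow_succ']; exact hα
  have hqinv : (α ^ q)⁻¹ = α := inv_eq_of_mul_eq_one_left hq1
  set β := α ^ (q - 1) with hβ
  have hβ2 : β * α ^ 2 = 1 := by
    rw [hβ, pow_q_sub_one hF hα0]; field_simp; linear_combination hq1
  have hβne : β ≠ α := fun e' => hα3 (by rw [e'] at hβ2; linear_combination hβ2)
  have hd : β - α ≠ 0 := sub_ne_zero.2 hβne
  set s := -(α ^ q * z ^ q) / (β - α) with hs
  obtain ⟨r, hr⟩ := exists_trace_eq hF (t := -(s * s ^ q))
    (by rw [neg_pow_q hF, mul_pow, pow_q_pow_q hF, mul_comm])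
  set w' := (s • e + (0 : F) • f + (1 : F) • w) with hw'
  set f' := (r • e + (1 : F) • f + (-(s ^ q)) • w) with hf'
  have h' : Frame3 q e f' w' := by
    constructor
    · exact h.ee
    · rw [hf', h.herm_comb hF, neg_pow_q hF, pow_q_pow_q hF]; linear_combination hr
    · simp [hf', herm_add_right hF, herm_smul_right hF, herm_neg_right hF, h.ee, h.ef, h.ew hF]
    · rw [hw', h.herm_comb hF]; simp [zero_pow_q hF]
    · simp [hw', herm_add_left, herm_smul_left, h.ee, h.we]
    · rw [hw', hf', h.herm_comb hF, neg_pow_q hF, pow_q_pow_q hF]; simp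
  have hgw' : g • w' = β • w' := by
    rw [hw', zero_smul, add_zero, one_smul, smul_add, smul_comm g, hga, g2]
    have : -(α ^ q * z ^ q) = s * (β - α) := by rw [hs, div_mul_cancel₀ _ hd]
    rw [this]
    match_scalars <;> ring
  obtain ⟨b', z', -, k1, k2, -⟩ := h'.exists_coords hF hga
  rw [hqinv] at k1
  rw [← hβ, hgw'] at k2
  have hz' : z' = 0 := by
    have h0 : (-(α ^ q * z' ^ q)) • e = 0 := by
      have := sub_eq_zero.2 k2.symm
      rwa [add_sub_cancel_right] at this
    rcases smul_eq_zero.1 h0 with e0 | e0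
    · have e1 : α ^ q * z' ^ q = 0 := neg_eq_zero.1 e0
      exact (pow_q_eq_zero_iff hF).1 ((mul_eq_zero.1 e1).resolve_left (pow_ne_zero _ hα0))
    · exact absurd e0 (h.e_ne hF)
  subst hz'
  rw [zero_smul, add_zero] at k1
  refine ⟨f', w', h', g ^ (q ^ 2), pow_mem hg _, β, ?_, ?_, ?_, hβne, hβ2⟩
  · rw [pow_smul_eigen hga, ← hF, FiniteField.pow_card]
  · rw [pow_smul_triangular hga k1, q_sq_cast hF, ← hF, FiniteField.pow_card]
    simp
  · rw [pow_smul_eigen hgw', ← hF, FiniteField.pow_card]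

/-- An element moving a point of the plane `w^⊥` can be corrected to fix the point of `w`. -/
theorem exists_mem_line {e₀ : Fin 3 → F} (hew : herm q e₀ w = 0) {t : SU 3 F q} (ht : t ∈ H)
    {α β : F} (ht0 : t • e₀ = α • e₀) (hte : t • e = α • e) (htw : t • w = β • w)
    (hα : α ^ (q + 1) = 1) (hβne : β ≠ α) (hβ2 : β * α ^ 2 = 1) {g : SU 3 F q} (hg : g ∈ H)
    {k : F} (hk : k ≠ 0) (hge : g • e₀ = k • e) :
    ∃ x ∈ H, x • e₀ = k • e ∧ ∃ κ : F, κ ≠ 0 ∧ x • w = κ • w := by
  have hα0 : α ≠ 0 := fun e' => by simp [e'] at hα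
  have hβ0 : β ≠ 0 := fun e' => by simp [e'] at hβ2
  have hq1 : α * α ^ q = 1 := by rw [← pow_succ']; exact hα
  -- the image of the line of `w`
  have hgwe : herm q (g • w) e = 0 := by
    have := herm_smul_SU g w e₀
    rw [hge, herm_smul_right hF, (herm_eq_zero_comm hF).1 hew] at this
    exact (mul_eq_zero.1 this).resolve_left (pow_ne_zero _ hk)
  set σ := herm q (g • w) f
  set κ := herm q (g • w) w
  have hgw : g • w = σ • e + κ • w := by
    have := h.decomp hF (g • w)
    rwa [hgwe, zero_smul, add_zero] at this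
  have hκ : κ ≠ 0 := fun e' => by
    have := herm_smul_SU g w w
    rw [hgw, e', zero_smul, add_zero, herm_smul_left, herm_smul_right hF, h.ee, h.ww] at this
    simp at this
  have hgi : g⁻¹ • e = k⁻¹ • e₀ := by rw [inv_smul_eq_iff, smul_comm g, hge, inv_smul_smul₀ hk]
  set s := g * t * g⁻¹ with hs
  have hse : s • e = α • e := by
    rw [hs, mul_smul, hgi, mul_smul, smul_comm t, ht0, smul_comm g, smul_comm g, hge]
    match_scalars
    field_simp
  have hsw : s • w = (σ * (β - α) / κ) • e + β • w := by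
    have h1 : s • (g • w) = β • (g • w) := by
      rw [hs, mul_smul, inv_smul_smul, mul_smul, htw, smul_comm g]
    rw [hgw, smul_add, smul_comm s σ, hse, smul_comm s κ] at h1
    refine smul_right_injective _ hκ ?_
    show κ • _ = κ • _
    rw [eq_sub_of_add_eq' h1]
    match_scalars <;> field_simp <;> ring
  have htie : t⁻¹ • e = α⁻¹ • e := by
    rw [inv_smul_eq_iff, smul_comm t, hte, inv_smul_smul₀ hα0]
  have htiw : t⁻¹ • w = β⁻¹ • w := by
    rw [inv_smul_eq_iff, smul_comm t, htw, inv_smul_smul₀ hβ0]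
  have hue' : (s * t⁻¹) • e = e := by rw [mul_smul, htie, smul_comm s, hse, inv_smul_smul₀ hα0]
  have hs_mem : s * t⁻¹ ∈ H := mul_mem (mul_mem (mul_mem hg ht) (inv_mem hg)) (inv_mem ht)
  obtain ⟨b₁, z₁, u1, u2, -⟩ := coords_unip hF h hue'
  have hz₁ : z₁ ∈ zset hF H h := ⟨_, hs_mem, hue', (zb_unip hF h u1).2⟩
  have hz₁' : -(z₁ ^ q) = σ * (β - α) / (κ * β) := by
    rw [mul_smul, htiw, smul_comm _ β⁻¹, hsw] at u2
    have e1 := congrArg (fun x => herm q x f) u2
    simp [herm_add_left, herm_smul_left, herm_neg_left, h.ef, h.wf] at e1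
    field_simp at e1 ⊢
    linear_combination -e1
  -- the translation conjugating `t` to `s`
  have hαc : (Units.mk0 α hα0) ∈ cset hF H h :=
    ⟨⟨t, ht, α, hα0, hte⟩, Units.ext (by
      show herm q (t • e) f = α
      rw [hte, herm_smul_left, h.ef, mul_one])⟩
  set γ := α ^ (q - 1) * α ^ q with hγ
  have hγq : γ ^ q = α / β := by
    rw [hγ, pow_q_sub_one hF hα0, mul_pow, div_pow, pow_q_pow_q hF]
    field_simp
    linear_combination α ^ q * hβ2 - α * β * hq1
  have hγ1 : 1 - γ ≠ 0 := sub_ne_zero.2 fun e' => hβne (by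
    rw [← e', one_pow] at hγq; field_simp at hγq; exact hγq)
  have hstab : ∀ z ∈ zset hF H h, (1 - γ) * z ∈ zset hF H h := fun z hz => by
    have := (zset hF H h).sub_mem hz (zset_scale hF H h hαc hz)
    rw [show (1 - γ) * z = z - z * γ by ring]; exact this
  have hinj : Function.Injective
      (fun z : zset hF H h => (⟨(1 - γ) * z.1, hstab _ z.2⟩ : zset hF H h)) := fun a b e' =>
    Subtype.ext (mul_left_cancel₀ hγ1 (congrArg (fun u : zset hF H h => u.1) e'))
  obtain ⟨⟨z₂, u, hu, hue, hzu⟩, hz₂⟩ := Finite.surjective_of_injective hinj ⟨z₁, hz₁⟩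
  have hz₂' : (1 - γ) * z₂ = z₁ := congrArg (fun v : zset hF H h => v.1) hz₂
  obtain ⟨b₃, z₃, v1, v2, -⟩ := coords_unip hF h hue
  obtain rfl : z₃ = z₂ := (zb_unip hF h v1).2.symm.trans hzu
  refine ⟨u⁻¹ * g, mul_mem (inv_mem hu) hg, ?_, κ, hκ, ?_⟩
  · rw [mul_smul, hge, inv_smul_eq_iff, smul_comm u, hue]
  · rw [mul_smul, inv_smul_eq_iff, hgw, smul_comm u, v2, smul_add, smul_smul]
    congr 2
    rw [← hz₂', mul_pow, sub_pow_q hF, one_pow, hγq] at hz₁'
    have : β - α ≠ 0 := sub_ne_zero.2 hβne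
    field_simp at hz₁'
    linear_combination -hz₁'

end Cfsg.Agent.MinIndexU3
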